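import Cfsg.Agent.Lib.H6.FiPerm.Tab0
import Cfsg.Agent.Lib.H6.FiPerm.Tab1
import Cfsg.Agent.Lib.H6.FiPerm.Tab2
import Cfsg.Agent.Lib.H6.FiPerm.Tab3
import Cfsg.Agent.Lib.H6.FiPerm.Tab4
import Cfsg.Agent.Lib.H6.FiPerm.Tab5
import Cfsg.Agent.Lib.H6.FiPerm.Tab6
import Cfsg.Agent.Lib.H6.FiPerm.Tab7
import Cfsg.Agent.Lib.H6.FiPerm.Tab8
import Cfsg.Agent.Lib.H6.FiPerm.Tab9
import Cfsg.Agent.Lib.H6.FiPerm.Tab10
import Cfsg.Agent.Lib.H6.FiPerm.Tab11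
import Cfsg.Agent.Lib.H6.FiPerm.Tab12
import Cfsg.Agent.Lib.H6.FiPerm.Tab13
import Cfsg.Agent.Lib.H6.FiPerm.Tab14
import Cfsg.Agent.Lib.H6.FiPerm.Tab15

set_option autoImplicit false
set_option maxRecDepth 1000000

/-! # the coset table as a function (generated) -/

namespace Cfsg.Agent.Lib.H6.FiPerm

open Cfsg.Agent.Lib.H17.CosetCert Cfsg.Agent.Lib.H6.PermTab Cfsg.Agent.Lib.H6.PermFast

/-- the table of the letter `x` -/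
noncomputable def tab (x : ℕ) : BT :=
  cond (Nat.beq x 0) t0
    (cond (Nat.beq x 1) t1
    (cond (Nat.beq x 2) t2
    (cond (Nat.beq x 3) t3
    (cond (Nat.beq x 4) t4
    (cond (Nat.beq x 5) t5
    (cond (Nat.beq x 6) t6
    (cond (Nat.beq x 7) t7
    (cond (Nat.beq x 8) t8
    (cond (Nat.beq x 9) t9
    (cond (Nat.beq x 10) t10
    (cond (Nat.beq x 11) t11
    (cond (Nat.beq x 12) t12
    (cond (Nat.beq x 13) t13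
    (cond (Nat.beq x 14) t14
    (t15)))))))))))))))

/-- the image of the point `i` under the letter `x` -/
noncomputable def T (x i : ℕ) : ℕ :=
  lkR 9 19 511 524287 (tab x) i

/-- the inverse letter -/
def iv (x : ℕ) : ℕ :=
  cond (Nat.beq x 12) 13 (cond (Nat.beq x 13) 12 (cond (Nat.beq x 14) 15 (cond (Nat.beq x 15) 14 x)))

/-- the pairs of words with equal images -/
def eqPairs : List (List ℕ × List ℕ) := [
  ([0, 0], []),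
  ([1, 1], []),
  ([2, 2], []),
  ([3, 3], []),
  ([4, 4], []),
  ([5, 5], []),
  ([6, 6], []),
  ([7, 7], []),
  ([8, 8], []),
  ([9, 9], []),
  ([10, 10], []),
  ([11, 11], []),
  ([0, 1, 0], [1, 0, 1]),
  ([0, 2], [2, 0]),
  ([0, 3], [3, 0]),
  ([0, 4], [4, 0]),
  ([0, 5], [5, 0]),
  ([0, 6], [6, 0]),
  ([0, 7], [7, 0]),
  ([0, 8], [8, 0]),
  ([0, 9], [9, 0]),
  ([0, 10], [10, 0]),
  ([0, 11], [11, 0]),
  ([1, 2, 1], [2, 1, 2]),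
  ([1, 3], [3, 1]),
  ([1, 4], [4, 1]),
  ([1, 5], [5, 1]),
  ([1, 6], [6, 1]),
  ([1, 7], [7, 1]),
  ([1, 8], [8, 1]),
  ([1, 9], [9, 1]),
  ([1, 10], [10, 1]),
  ([1, 11], [11, 1]),
  ([2, 3, 2], [3, 2, 3]),
  ([2, 4], [4, 2]),
  ([2, 5], [5, 2]),
  ([2, 6], [6, 2]),
  ([2, 7], [7, 2]),
  ([2, 8], [8, 2]),
  ([2, 9], [9, 2]),
  ([2, 10], [10, 2]),
  ([2, 11], [11, 2]),
  ([3, 4, 3], [4, 3, 4]),
  ([3, 5], [5, 3]),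
  ([3, 6], [6, 3]),
  ([3, 7], [7, 3]),
  ([3, 8], [8, 3]),
  ([3, 9], [9, 3]),
  ([3, 10], [10, 3]),
  ([3, 11], [11, 3]),
  ([4, 5, 4], [5, 4, 5]),
  ([4, 6], [6, 4]),
  ([4, 7], [7, 4]),
  ([4, 8], [8, 4]),
  ([4, 9], [9, 4]),
  ([4, 10], [10, 4]),
  ([4, 11], [11, 4]),
  ([5, 6, 5], [6, 5, 6]),
  ([5, 7], [7, 5]),
  ([5, 8], [8, 5]),
  ([5, 9], [9, 5]),
  ([5, 10, 5], [10, 5, 10]),
  ([5, 11], [11, 5]),
  ([6, 7, 6], [7, 6, 7]),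
  ([6, 8], [8, 6]),
  ([6, 9], [9, 6]),
  ([6, 10], [10, 6]),
  ([6, 11], [11, 6]),
  ([7, 8, 7], [8, 7, 8]),
  ([7, 9], [9, 7]),
  ([7, 10], [10, 7]),
  ([7, 11], [11, 7]),
  ([8, 9, 8], [9, 8, 9]),
  ([8, 10], [10, 8]),
  ([8, 11], [11, 8]),
  ([9, 10], [10, 9]),
  ([9, 11], [11, 9]),
  ([10, 11, 10], [11, 10, 11]),
  ([12, 13], []),
  ([13, 12], []),
  ([14, 15], []),
  ([15, 14], []),
  ([5, 4, 3, 2, 1, 0, 5, 6, 7, 8, 9, 5, 10, 11], [12]),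
  ([12, 12, 12, 12, 12, 12, 12, 12, 12, 12, 12, 12, 12, 12, 12, 12, 12], []),
  ([10, 7, 6, 5, 4, 3, 2], [14]),
  ([0, 14, 14, 14, 14, 14, 14, 14, 14, 14], [])]

end Cfsg.Agent.Lib.H6.FiPerm
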