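import Cfsg.Agent.Lib.H6.FiPerm.Tab

set_option autoImplicit false
set_option maxRecDepth 1000000

/-! # checks, part 1 (generated) -/

namespace Cfsg.Agent.Lib.H6.FiPerm

open Cfsg.Agent.Lib.H17.CosetCert Cfsg.Agent.Lib.H6.PermTab Cfsg.Agent.Lib.H6.PermFast

set_option maxHeartbeats 0 in
theorem chk8 : checkAll T eqPairs 16 12 306936 8192 1024 = true := by
  decide +kernel

set_option maxHeartbeats 0 in
theorem chk9 : checkAll T eqPairs 16 12 306936 9216 1024 = true := by
  decide +kernel

set_option maxHeartbeats 0 in
theorem chk10 : checkAll T eqPairs 16 12 306936 10240 1024 = true := by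
  decide +kernel

set_option maxHeartbeats 0 in
theorem chk11 : checkAll T eqPairs 16 12 306936 11264 1024 = true := by
  decide +kernel

set_option maxHeartbeats 0 in
theorem chk12 : checkAll T eqPairs 16 12 306936 12288 1024 = true := by
  decide +kernel

set_option maxHeartbeats 0 in
theorem chk13 : checkAll T eqPairs 16 12 306936 13312 1024 = true := by
  decide +kernel

set_option maxHeartbeats 0 in
theorem chk14 : checkAll T eqPairs 16 12 306936 14336 1024 = true := by
  decide +kernel

set_option maxHeartbeats 0 in
theorem chk15 : checkAll T eqPairs 16 12 306936 15360 1024 = true := by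
  decide +kernel

end Cfsg.Agent.Lib.H6.FiPerm
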