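import Cfsg.Agent.Lib.H6.FiPerm.Tab

set_option autoImplicit false
set_option maxRecDepth 1000000

/-! # checks, part 12 (generated) -/

namespace Cfsg.Agent.Lib.H6.FiPerm

open Cfsg.Agent.Lib.H17.CosetCert Cfsg.Agent.Lib.H6.PermTab Cfsg.Agent.Lib.H6.PermFast

set_option maxHeartbeats 0 in
theorem chk96 : checkAll T eqPairs 16 12 306936 98304 1024 = true := by
  decide +kernel

set_option maxHeartbeats 0 in
theorem chk97 : checkAll T eqPairs 16 12 306936 99328 1024 = true := by
  decide +kernel

set_option maxHeartbeats 0 in
theorem chk98 : checkAll T eqPairs 16 12 306936 100352 1024 = true := by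
  decide +kernel

set_option maxHeartbeats 0 in
theorem chk99 : checkAll T eqPairs 16 12 306936 101376 1024 = true := by
  decide +kernel

set_option maxHeartbeats 0 in
theorem chk100 : checkAll T eqPairs 16 12 306936 102400 1024 = true := by
  decide +kernel

set_option maxHeartbeats 0 in
theorem chk101 : checkAll T eqPairs 16 12 306936 103424 1024 = true := by
  decide +kernel

set_option maxHeartbeats 0 in
theorem chk102 : checkAll T eqPairs 16 12 306936 104448 1024 = true := by
  decide +kernel

set_option maxHeartbeats 0 in
theorem chk103 : checkAll T eqPairs 16 12 306936 105472 1024 = true := by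
  decide +kernel

end Cfsg.Agent.Lib.H6.FiPerm
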