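import Cfsg.Agent.Lib.H6.FiPerm.Tab

set_option autoImplicit false
set_option maxRecDepth 1000000

/-! # checks, part 13 (generated) -/

namespace Cfsg.Agent.Lib.H6.FiPerm

open Cfsg.Agent.Lib.H17.CosetCert Cfsg.Agent.Lib.H6.PermTab Cfsg.Agent.Lib.H6.PermFast

set_option maxHeartbeats 0 in
theorem chk104 : checkAll T eqPairs 16 12 306936 106496 1024 = true := by
  decide +kernel

set_option maxHeartbeats 0 in
theorem chk105 : checkAll T eqPairs 16 12 306936 107520 1024 = true := by
  decide +kernel

set_option maxHeartbeats 0 in
theorem chk106 : checkAll T eqPairs 16 12 306936 108544 1024 = true := by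
  decide +kernel

set_option maxHeartbeats 0 in
theorem chk107 : checkAll T eqPairs 16 12 306936 109568 1024 = true := by
  decide +kernel

set_option maxHeartbeats 0 in
theorem chk108 : checkAll T eqPairs 16 12 306936 110592 1024 = true := by
  decide +kernel

set_option maxHeartbeats 0 in
theorem chk109 : checkAll T eqPairs 16 12 306936 111616 1024 = true := by
  decide +kernel

set_option maxHeartbeats 0 in
theorem chk110 : checkAll T eqPairs 16 12 306936 112640 1024 = true := by
  decide +kernel

set_option maxHeartbeats 0 in
theorem chk111 : checkAll T eqPairs 16 12 306936 113664 1024 = true := by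
  decide +kernel

end Cfsg.Agent.Lib.H6.FiPerm
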