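import Cfsg.Agent.Lib.H6.FiPerm.Tab

set_option autoImplicit false
set_option maxRecDepth 1000000

/-! # checks, part 15 (generated) -/

namespace Cfsg.Agent.Lib.H6.FiPerm

open Cfsg.Agent.Lib.H17.CosetCert Cfsg.Agent.Lib.H6.PermTab Cfsg.Agent.Lib.H6.PermFast

set_option maxHeartbeats 0 in
theorem chk120 : checkAll T eqPairs 16 12 306936 122880 1024 = true := by
  decide +kernel

set_option maxHeartbeats 0 in
theorem chk121 : checkAll T eqPairs 16 12 306936 123904 1024 = true := by
  decide +kernel

set_option maxHeartbeats 0 in
theorem chk122 : checkAll T eqPairs 16 12 306936 124928 1024 = true := by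
  decide +kernel

set_option maxHeartbeats 0 in
theorem chk123 : checkAll T eqPairs 16 12 306936 125952 1024 = true := by
  decide +kernel

set_option maxHeartbeats 0 in
theorem chk124 : checkAll T eqPairs 16 12 306936 126976 1024 = true := by
  decide +kernel

set_option maxHeartbeats 0 in
theorem chk125 : checkAll T eqPairs 16 12 306936 128000 1024 = true := by
  decide +kernel

set_option maxHeartbeats 0 in
theorem chk126 : checkAll T eqPairs 16 12 306936 129024 1024 = true := by
  decide +kernel

set_option maxHeartbeats 0 in
theorem chk127 : checkAll T eqPairs 16 12 306936 130048 1024 = true := by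
  decide +kernel

end Cfsg.Agent.Lib.H6.FiPerm
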