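import Cfsg.Agent.Lib.H6.FiPerm.Tab

set_option autoImplicit false
set_option maxRecDepth 1000000

/-! # checks, part 16 (generated) -/

namespace Cfsg.Agent.Lib.H6.FiPerm

open Cfsg.Agent.Lib.H17.CosetCert Cfsg.Agent.Lib.H6.PermTab Cfsg.Agent.Lib.H6.PermFast

set_option maxHeartbeats 0 in
theorem chk128 : checkAll T eqPairs 16 12 306936 131072 1024 = true := by
  decide +kernel

set_option maxHeartbeats 0 in
theorem chk129 : checkAll T eqPairs 16 12 306936 132096 1024 = true := by
  decide +kernel

set_option maxHeartbeats 0 in
theorem chk130 : checkAll T eqPairs 16 12 306936 133120 1024 = true := by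
  decide +kernel

set_option maxHeartbeats 0 in
theorem chk131 : checkAll T eqPairs 16 12 306936 134144 1024 = true := by
  decide +kernel

set_option maxHeartbeats 0 in
theorem chk132 : checkAll T eqPairs 16 12 306936 135168 1024 = true := by
  decide +kernel

set_option maxHeartbeats 0 in
theorem chk133 : checkAll T eqPairs 16 12 306936 136192 1024 = true := by
  decide +kernel

set_option maxHeartbeats 0 in
theorem chk134 : checkAll T eqPairs 16 12 306936 137216 1024 = true := by
  decide +kernel

set_option maxHeartbeats 0 in
theorem chk135 : checkAll T eqPairs 16 12 306936 138240 1024 = true := by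
  decide +kernel

end Cfsg.Agent.Lib.H6.FiPerm
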