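import Cfsg.Agent.Lib.H6.FiPerm.Tab

set_option autoImplicit false
set_option maxRecDepth 1000000

/-! # checks, part 17 (generated) -/

namespace Cfsg.Agent.Lib.H6.FiPerm

open Cfsg.Agent.Lib.H17.CosetCert Cfsg.Agent.Lib.H6.PermTab Cfsg.Agent.Lib.H6.PermFast

set_option maxHeartbeats 0 in
theorem chk136 : checkAll T eqPairs 16 12 306936 139264 1024 = true := by
  decide +kernel

set_option maxHeartbeats 0 in
theorem chk137 : checkAll T eqPairs 16 12 306936 140288 1024 = true := by
  decide +kernel

set_option maxHeartbeats 0 in
theorem chk138 : checkAll T eqPairs 16 12 306936 141312 1024 = true := by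
  decide +kernel

set_option maxHeartbeats 0 in
theorem chk139 : checkAll T eqPairs 16 12 306936 142336 1024 = true := by
  decide +kernel

set_option maxHeartbeats 0 in
theorem chk140 : checkAll T eqPairs 16 12 306936 143360 1024 = true := by
  decide +kernel

set_option maxHeartbeats 0 in
theorem chk141 : checkAll T eqPairs 16 12 306936 144384 1024 = true := by
  decide +kernel

set_option maxHeartbeats 0 in
theorem chk142 : checkAll T eqPairs 16 12 306936 145408 1024 = true := by
  decide +kernel

set_option maxHeartbeats 0 in
theorem chk143 : checkAll T eqPairs 16 12 306936 146432 1024 = true := by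
  decide +kernel

end Cfsg.Agent.Lib.H6.FiPerm
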