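import Cfsg.Agent.Lib.H6.FiPerm.Tab

set_option autoImplicit false
set_option maxRecDepth 1000000

/-! # checks, part 18 (generated) -/

namespace Cfsg.Agent.Lib.H6.FiPerm

open Cfsg.Agent.Lib.H17.CosetCert Cfsg.Agent.Lib.H6.PermTab Cfsg.Agent.Lib.H6.PermFast

set_option maxHeartbeats 0 in
theorem chk144 : checkAll T eqPairs 16 12 306936 147456 1024 = true := by
  decide +kernel

set_option maxHeartbeats 0 in
theorem chk145 : checkAll T eqPairs 16 12 306936 148480 1024 = true := by
  decide +kernel

set_option maxHeartbeats 0 in
theorem chk146 : checkAll T eqPairs 16 12 306936 149504 1024 = true := by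
  decide +kernel

set_option maxHeartbeats 0 in
theorem chk147 : checkAll T eqPairs 16 12 306936 150528 1024 = true := by
  decide +kernel

set_option maxHeartbeats 0 in
theorem chk148 : checkAll T eqPairs 16 12 306936 151552 1024 = true := by
  decide +kernel

set_option maxHeartbeats 0 in
theorem chk149 : checkAll T eqPairs 16 12 306936 152576 1024 = true := by
  decide +kernel

set_option maxHeartbeats 0 in
theorem chk150 : checkAll T eqPairs 16 12 306936 153600 1024 = true := by
  decide +kernel

set_option maxHeartbeats 0 in
theorem chk151 : checkAll T eqPairs 16 12 306936 154624 1024 = true := by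
  decide +kernel

end Cfsg.Agent.Lib.H6.FiPerm
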