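import Cfsg.Agent.Lib.H6.FiPerm.Tab

set_option autoImplicit false
set_option maxRecDepth 1000000

/-! # checks, part 19 (generated) -/

namespace Cfsg.Agent.Lib.H6.FiPerm

open Cfsg.Agent.Lib.H17.CosetCert Cfsg.Agent.Lib.H6.PermTab Cfsg.Agent.Lib.H6.PermFast

set_option maxHeartbeats 0 in
theorem chk152 : checkAll T eqPairs 16 12 306936 155648 1024 = true := by
  decide +kernel

set_option maxHeartbeats 0 in
theorem chk153 : checkAll T eqPairs 16 12 306936 156672 1024 = true := by
  decide +kernel

set_option maxHeartbeats 0 in
theorem chk154 : checkAll T eqPairs 16 12 306936 157696 1024 = true := by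
  decide +kernel

set_option maxHeartbeats 0 in
theorem chk155 : checkAll T eqPairs 16 12 306936 158720 1024 = true := by
  decide +kernel

set_option maxHeartbeats 0 in
theorem chk156 : checkAll T eqPairs 16 12 306936 159744 1024 = true := by
  decide +kernel

set_option maxHeartbeats 0 in
theorem chk157 : checkAll T eqPairs 16 12 306936 160768 1024 = true := by
  decide +kernel

set_option maxHeartbeats 0 in
theorem chk158 : checkAll T eqPairs 16 12 306936 161792 1024 = true := by
  decide +kernel

set_option maxHeartbeats 0 in
theorem chk159 : checkAll T eqPairs 16 12 306936 162816 1024 = true := by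
  decide +kernel

end Cfsg.Agent.Lib.H6.FiPerm
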