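import Cfsg.Agent.Lib.H6.FiPerm.Tab

set_option autoImplicit false
set_option maxRecDepth 1000000

/-! # checks, part 20 (generated) -/

namespace Cfsg.Agent.Lib.H6.FiPerm

open Cfsg.Agent.Lib.H17.CosetCert Cfsg.Agent.Lib.H6.PermTab Cfsg.Agent.Lib.H6.PermFast

set_option maxHeartbeats 0 in
theorem chk160 : checkAll T eqPairs 16 12 306936 163840 1024 = true := by
  decide +kernel

set_option maxHeartbeats 0 in
theorem chk161 : checkAll T eqPairs 16 12 306936 164864 1024 = true := by
  decide +kernel

set_option maxHeartbeats 0 in
theorem chk162 : checkAll T eqPairs 16 12 306936 165888 1024 = true := by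
  decide +kernel

set_option maxHeartbeats 0 in
theorem chk163 : checkAll T eqPairs 16 12 306936 166912 1024 = true := by
  decide +kernel

set_option maxHeartbeats 0 in
theorem chk164 : checkAll T eqPairs 16 12 306936 167936 1024 = true := by
  decide +kernel

set_option maxHeartbeats 0 in
theorem chk165 : checkAll T eqPairs 16 12 306936 168960 1024 = true := by
  decide +kernel

set_option maxHeartbeats 0 in
theorem chk166 : checkAll T eqPairs 16 12 306936 169984 1024 = true := by
  decide +kernel

set_option maxHeartbeats 0 in
theorem chk167 : checkAll T eqPairs 16 12 306936 171008 1024 = true := by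
  decide +kernel

end Cfsg.Agent.Lib.H6.FiPerm
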