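import Cfsg.Agent.Lib.H6.FiPerm.Tab

set_option autoImplicit false
set_option maxRecDepth 1000000

/-! # checks, part 21 (generated) -/

namespace Cfsg.Agent.Lib.H6.FiPerm

open Cfsg.Agent.Lib.H17.CosetCert Cfsg.Agent.Lib.H6.PermTab Cfsg.Agent.Lib.H6.PermFast

set_option maxHeartbeats 0 in
theorem chk168 : checkAll T eqPairs 16 12 306936 172032 1024 = true := by
  decide +kernel

set_option maxHeartbeats 0 in
theorem chk169 : checkAll T eqPairs 16 12 306936 173056 1024 = true := by
  decide +kernel

set_option maxHeartbeats 0 in
theorem chk170 : checkAll T eqPairs 16 12 306936 174080 1024 = true := by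
  decide +kernel

set_option maxHeartbeats 0 in
theorem chk171 : checkAll T eqPairs 16 12 306936 175104 1024 = true := by
  decide +kernel

set_option maxHeartbeats 0 in
theorem chk172 : checkAll T eqPairs 16 12 306936 176128 1024 = true := by
  decide +kernel

set_option maxHeartbeats 0 in
theorem chk173 : checkAll T eqPairs 16 12 306936 177152 1024 = true := by
  decide +kernel

set_option maxHeartbeats 0 in
theorem chk174 : checkAll T eqPairs 16 12 306936 178176 1024 = true := by
  decide +kernel

set_option maxHeartbeats 0 in
theorem chk175 : checkAll T eqPairs 16 12 306936 179200 1024 = true := by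
  decide +kernel

end Cfsg.Agent.Lib.H6.FiPerm
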