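import Cfsg.Agent.Lib.H6.FiPerm.Tab

set_option autoImplicit false
set_option maxRecDepth 1000000

/-! # checks, part 22 (generated) -/

namespace Cfsg.Agent.Lib.H6.FiPerm

open Cfsg.Agent.Lib.H17.CosetCert Cfsg.Agent.Lib.H6.PermTab Cfsg.Agent.Lib.H6.PermFast

set_option maxHeartbeats 0 in
theorem chk176 : checkAll T eqPairs 16 12 306936 180224 1024 = true := by
  decide +kernel

set_option maxHeartbeats 0 in
theorem chk177 : checkAll T eqPairs 16 12 306936 181248 1024 = true := by
  decide +kernel

set_option maxHeartbeats 0 in
theorem chk178 : checkAll T eqPairs 16 12 306936 182272 1024 = true := by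
  decide +kernel

set_option maxHeartbeats 0 in
theorem chk179 : checkAll T eqPairs 16 12 306936 183296 1024 = true := by
  decide +kernel

set_option maxHeartbeats 0 in
theorem chk180 : checkAll T eqPairs 16 12 306936 184320 1024 = true := by
  decide +kernel

set_option maxHeartbeats 0 in
theorem chk181 : checkAll T eqPairs 16 12 306936 185344 1024 = true := by
  decide +kernel

set_option maxHeartbeats 0 in
theorem chk182 : checkAll T eqPairs 16 12 306936 186368 1024 = true := by
  decide +kernel

set_option maxHeartbeats 0 in
theorem chk183 : checkAll T eqPairs 16 12 306936 187392 1024 = true := by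
  decide +kernel

end Cfsg.Agent.Lib.H6.FiPerm
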