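import Cfsg.Agent.Lib.H6.FiPerm.Tab

set_option autoImplicit false
set_option maxRecDepth 1000000

/-! # checks, part 23 (generated) -/

namespace Cfsg.Agent.Lib.H6.FiPerm

open Cfsg.Agent.Lib.H17.CosetCert Cfsg.Agent.Lib.H6.PermTab Cfsg.Agent.Lib.H6.PermFast

set_option maxHeartbeats 0 in
theorem chk184 : checkAll T eqPairs 16 12 306936 188416 1024 = true := by
  decide +kernel

set_option maxHeartbeats 0 in
theorem chk185 : checkAll T eqPairs 16 12 306936 189440 1024 = true := by
  decide +kernel

set_option maxHeartbeats 0 in
theorem chk186 : checkAll T eqPairs 16 12 306936 190464 1024 = true := by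
  decide +kernel

set_option maxHeartbeats 0 in
theorem chk187 : checkAll T eqPairs 16 12 306936 191488 1024 = true := by
  decide +kernel

set_option maxHeartbeats 0 in
theorem chk188 : checkAll T eqPairs 16 12 306936 192512 1024 = true := by
  decide +kernel

set_option maxHeartbeats 0 in
theorem chk189 : checkAll T eqPairs 16 12 306936 193536 1024 = true := by
  decide +kernel

set_option maxHeartbeats 0 in
theorem chk190 : checkAll T eqPairs 16 12 306936 194560 1024 = true := by
  decide +kernel

set_option maxHeartbeats 0 in
theorem chk191 : checkAll T eqPairs 16 12 306936 195584 1024 = true := by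
  decide +kernel

end Cfsg.Agent.Lib.H6.FiPerm
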