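import Cfsg.Agent.Lib.H6.FiPerm.Tab

set_option autoImplicit false
set_option maxRecDepth 1000000

/-! # checks, part 24 (generated) -/

namespace Cfsg.Agent.Lib.H6.FiPerm

open Cfsg.Agent.Lib.H17.CosetCert Cfsg.Agent.Lib.H6.PermTab Cfsg.Agent.Lib.H6.PermFast

set_option maxHeartbeats 0 in
theorem chk192 : checkAll T eqPairs 16 12 306936 196608 1024 = true := by
  decide +kernel

set_option maxHeartbeats 0 in
theorem chk193 : checkAll T eqPairs 16 12 306936 197632 1024 = true := by
  decide +kernel

set_option maxHeartbeats 0 in
theorem chk194 : checkAll T eqPairs 16 12 306936 198656 1024 = true := by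
  decide +kernel

set_option maxHeartbeats 0 in
theorem chk195 : checkAll T eqPairs 16 12 306936 199680 1024 = true := by
  decide +kernel

set_option maxHeartbeats 0 in
theorem chk196 : checkAll T eqPairs 16 12 306936 200704 1024 = true := by
  decide +kernel

set_option maxHeartbeats 0 in
theorem chk197 : checkAll T eqPairs 16 12 306936 201728 1024 = true := by
  decide +kernel

set_option maxHeartbeats 0 in
theorem chk198 : checkAll T eqPairs 16 12 306936 202752 1024 = true := by
  decide +kernel

set_option maxHeartbeats 0 in
theorem chk199 : checkAll T eqPairs 16 12 306936 203776 1024 = true := by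
  decide +kernel

end Cfsg.Agent.Lib.H6.FiPerm
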