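import Cfsg.Agent.Lib.H6.FiPerm.Tab

set_option autoImplicit false
set_option maxRecDepth 1000000

/-! # checks, part 25 (generated) -/

namespace Cfsg.Agent.Lib.H6.FiPerm

open Cfsg.Agent.Lib.H17.CosetCert Cfsg.Agent.Lib.H6.PermTab Cfsg.Agent.Lib.H6.PermFast

set_option maxHeartbeats 0 in
theorem chk200 : checkAll T eqPairs 16 12 306936 204800 1024 = true := by
  decide +kernel

set_option maxHeartbeats 0 in
theorem chk201 : checkAll T eqPairs 16 12 306936 205824 1024 = true := by
  decide +kernel

set_option maxHeartbeats 0 in
theorem chk202 : checkAll T eqPairs 16 12 306936 206848 1024 = true := by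
  decide +kernel

set_option maxHeartbeats 0 in
theorem chk203 : checkAll T eqPairs 16 12 306936 207872 1024 = true := by
  decide +kernel

set_option maxHeartbeats 0 in
theorem chk204 : checkAll T eqPairs 16 12 306936 208896 1024 = true := by
  decide +kernel

set_option maxHeartbeats 0 in
theorem chk205 : checkAll T eqPairs 16 12 306936 209920 1024 = true := by
  decide +kernel

set_option maxHeartbeats 0 in
theorem chk206 : checkAll T eqPairs 16 12 306936 210944 1024 = true := by
  decide +kernel

set_option maxHeartbeats 0 in
theorem chk207 : checkAll T eqPairs 16 12 306936 211968 1024 = true := by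
  decide +kernel

end Cfsg.Agent.Lib.H6.FiPerm
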