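import Cfsg.Agent.Lib.H6.FiPerm.Tab

set_option autoImplicit false
set_option maxRecDepth 1000000

/-! # checks, part 26 (generated) -/

namespace Cfsg.Agent.Lib.H6.FiPerm

open Cfsg.Agent.Lib.H17.CosetCert Cfsg.Agent.Lib.H6.PermTab Cfsg.Agent.Lib.H6.PermFast

set_option maxHeartbeats 0 in
theorem chk208 : checkAll T eqPairs 16 12 306936 212992 1024 = true := by
  decide +kernel

set_option maxHeartbeats 0 in
theorem chk209 : checkAll T eqPairs 16 12 306936 214016 1024 = true := by
  decide +kernel

set_option maxHeartbeats 0 in
theorem chk210 : checkAll T eqPairs 16 12 306936 215040 1024 = true := by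
  decide +kernel

set_option maxHeartbeats 0 in
theorem chk211 : checkAll T eqPairs 16 12 306936 216064 1024 = true := by
  decide +kernel

set_option maxHeartbeats 0 in
theorem chk212 : checkAll T eqPairs 16 12 306936 217088 1024 = true := by
  decide +kernel

set_option maxHeartbeats 0 in
theorem chk213 : checkAll T eqPairs 16 12 306936 218112 1024 = true := by
  decide +kernel

set_option maxHeartbeats 0 in
theorem chk214 : checkAll T eqPairs 16 12 306936 219136 1024 = true := by
  decide +kernel

set_option maxHeartbeats 0 in
theorem chk215 : checkAll T eqPairs 16 12 306936 220160 1024 = true := by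
  decide +kernel

end Cfsg.Agent.Lib.H6.FiPerm
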