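import Cfsg.Agent.Lib.H6.FiPerm.Tab

set_option autoImplicit false
set_option maxRecDepth 1000000

/-! # checks, part 27 (generated) -/

namespace Cfsg.Agent.Lib.H6.FiPerm

open Cfsg.Agent.Lib.H17.CosetCert Cfsg.Agent.Lib.H6.PermTab Cfsg.Agent.Lib.H6.PermFast

set_option maxHeartbeats 0 in
theorem chk216 : checkAll T eqPairs 16 12 306936 221184 1024 = true := by
  decide +kernel

set_option maxHeartbeats 0 in
theorem chk217 : checkAll T eqPairs 16 12 306936 222208 1024 = true := by
  decide +kernel

set_option maxHeartbeats 0 in
theorem chk218 : checkAll T eqPairs 16 12 306936 223232 1024 = true := by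
  decide +kernel

set_option maxHeartbeats 0 in
theorem chk219 : checkAll T eqPairs 16 12 306936 224256 1024 = true := by
  decide +kernel

set_option maxHeartbeats 0 in
theorem chk220 : checkAll T eqPairs 16 12 306936 225280 1024 = true := by
  decide +kernel

set_option maxHeartbeats 0 in
theorem chk221 : checkAll T eqPairs 16 12 306936 226304 1024 = true := by
  decide +kernel

set_option maxHeartbeats 0 in
theorem chk222 : checkAll T eqPairs 16 12 306936 227328 1024 = true := by
  decide +kernel

set_option maxHeartbeats 0 in
theorem chk223 : checkAll T eqPairs 16 12 306936 228352 1024 = true := by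
  decide +kernel

end Cfsg.Agent.Lib.H6.FiPerm
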