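import Cfsg.Agent.Lib.H6.FiPerm.Tab

set_option autoImplicit false
set_option maxRecDepth 1000000

/-! # checks, part 29 (generated) -/

namespace Cfsg.Agent.Lib.H6.FiPerm

open Cfsg.Agent.Lib.H17.CosetCert Cfsg.Agent.Lib.H6.PermTab Cfsg.Agent.Lib.H6.PermFast

set_option maxHeartbeats 0 in
theorem chk232 : checkAll T eqPairs 16 12 306936 237568 1024 = true := by
  decide +kernel

set_option maxHeartbeats 0 in
theorem chk233 : checkAll T eqPairs 16 12 306936 238592 1024 = true := by
  decide +kernel

set_option maxHeartbeats 0 in
theorem chk234 : checkAll T eqPairs 16 12 306936 239616 1024 = true := by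
  decide +kernel

set_option maxHeartbeats 0 in
theorem chk235 : checkAll T eqPairs 16 12 306936 240640 1024 = true := by
  decide +kernel

set_option maxHeartbeats 0 in
theorem chk236 : checkAll T eqPairs 16 12 306936 241664 1024 = true := by
  decide +kernel

set_option maxHeartbeats 0 in
theorem chk237 : checkAll T eqPairs 16 12 306936 242688 1024 = true := by
  decide +kernel

set_option maxHeartbeats 0 in
theorem chk238 : checkAll T eqPairs 16 12 306936 243712 1024 = true := by
  decide +kernel

set_option maxHeartbeats 0 in
theorem chk239 : checkAll T eqPairs 16 12 306936 244736 1024 = true := by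
  decide +kernel

end Cfsg.Agent.Lib.H6.FiPerm
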