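import Cfsg.Agent.Lib.H6.FiPerm.Tab

set_option autoImplicit false
set_option maxRecDepth 1000000

/-! # checks, part 30 (generated) -/

namespace Cfsg.Agent.Lib.H6.FiPerm

open Cfsg.Agent.Lib.H17.CosetCert Cfsg.Agent.Lib.H6.PermTab Cfsg.Agent.Lib.H6.PermFast

set_option maxHeartbeats 0 in
theorem chk240 : checkAll T eqPairs 16 12 306936 245760 1024 = true := by
  decide +kernel

set_option maxHeartbeats 0 in
theorem chk241 : checkAll T eqPairs 16 12 306936 246784 1024 = true := by
  decide +kernel

set_option maxHeartbeats 0 in
theorem chk242 : checkAll T eqPairs 16 12 306936 247808 1024 = true := by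
  decide +kernel

set_option maxHeartbeats 0 in
theorem chk243 : checkAll T eqPairs 16 12 306936 248832 1024 = true := by
  decide +kernel

set_option maxHeartbeats 0 in
theorem chk244 : checkAll T eqPairs 16 12 306936 249856 1024 = true := by
  decide +kernel

set_option maxHeartbeats 0 in
theorem chk245 : checkAll T eqPairs 16 12 306936 250880 1024 = true := by
  decide +kernel

set_option maxHeartbeats 0 in
theorem chk246 : checkAll T eqPairs 16 12 306936 251904 1024 = true := by
  decide +kernel

set_option maxHeartbeats 0 in
theorem chk247 : checkAll T eqPairs 16 12 306936 252928 1024 = true := by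
  decide +kernel

end Cfsg.Agent.Lib.H6.FiPerm
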