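import Cfsg.Agent.Lib.H6.FiPerm.Tab

set_option autoImplicit false
set_option maxRecDepth 1000000

/-! # checks, part 31 (generated) -/

namespace Cfsg.Agent.Lib.H6.FiPerm

open Cfsg.Agent.Lib.H17.CosetCert Cfsg.Agent.Lib.H6.PermTab Cfsg.Agent.Lib.H6.PermFast

set_option maxHeartbeats 0 in
theorem chk248 : checkAll T eqPairs 16 12 306936 253952 1024 = true := by
  decide +kernel

set_option maxHeartbeats 0 in
theorem chk249 : checkAll T eqPairs 16 12 306936 254976 1024 = true := by
  decide +kernel

set_option maxHeartbeats 0 in
theorem chk250 : checkAll T eqPairs 16 12 306936 256000 1024 = true := by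
  decide +kernel

set_option maxHeartbeats 0 in
theorem chk251 : checkAll T eqPairs 16 12 306936 257024 1024 = true := by
  decide +kernel

set_option maxHeartbeats 0 in
theorem chk252 : checkAll T eqPairs 16 12 306936 258048 1024 = true := by
  decide +kernel

set_option maxHeartbeats 0 in
theorem chk253 : checkAll T eqPairs 16 12 306936 259072 1024 = true := by
  decide +kernel

set_option maxHeartbeats 0 in
theorem chk254 : checkAll T eqPairs 16 12 306936 260096 1024 = true := by
  decide +kernel

set_option maxHeartbeats 0 in
theorem chk255 : checkAll T eqPairs 16 12 306936 261120 1024 = true := by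
  decide +kernel

end Cfsg.Agent.Lib.H6.FiPerm
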