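import Cfsg.Agent.Lib.H6.FiPerm.Tab

set_option autoImplicit false
set_option maxRecDepth 1000000

/-! # checks, part 32 (generated) -/

namespace Cfsg.Agent.Lib.H6.FiPerm

open Cfsg.Agent.Lib.H17.CosetCert Cfsg.Agent.Lib.H6.PermTab Cfsg.Agent.Lib.H6.PermFast

set_option maxHeartbeats 0 in
theorem chk256 : checkAll T eqPairs 16 12 306936 262144 1024 = true := by
  decide +kernel

set_option maxHeartbeats 0 in
theorem chk257 : checkAll T eqPairs 16 12 306936 263168 1024 = true := by
  decide +kernel

set_option maxHeartbeats 0 in
theorem chk258 : checkAll T eqPairs 16 12 306936 264192 1024 = true := by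
  decide +kernel

set_option maxHeartbeats 0 in
theorem chk259 : checkAll T eqPairs 16 12 306936 265216 1024 = true := by
  decide +kernel

set_option maxHeartbeats 0 in
theorem chk260 : checkAll T eqPairs 16 12 306936 266240 1024 = true := by
  decide +kernel

set_option maxHeartbeats 0 in
theorem chk261 : checkAll T eqPairs 16 12 306936 267264 1024 = true := by
  decide +kernel

set_option maxHeartbeats 0 in
theorem chk262 : checkAll T eqPairs 16 12 306936 268288 1024 = true := by
  decide +kernel

set_option maxHeartbeats 0 in
theorem chk263 : checkAll T eqPairs 16 12 306936 269312 1024 = true := by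
  decide +kernel

end Cfsg.Agent.Lib.H6.FiPerm
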