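import Cfsg.Agent.Lib.H6.FiPerm.Tab

set_option autoImplicit false
set_option maxRecDepth 1000000

/-! # checks, part 33 (generated) -/

namespace Cfsg.Agent.Lib.H6.FiPerm

open Cfsg.Agent.Lib.H17.CosetCert Cfsg.Agent.Lib.H6.PermTab Cfsg.Agent.Lib.H6.PermFast

set_option maxHeartbeats 0 in
theorem chk264 : checkAll T eqPairs 16 12 306936 270336 1024 = true := by
  decide +kernel

set_option maxHeartbeats 0 in
theorem chk265 : checkAll T eqPairs 16 12 306936 271360 1024 = true := by
  decide +kernel

set_option maxHeartbeats 0 in
theorem chk266 : checkAll T eqPairs 16 12 306936 272384 1024 = true := by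
  decide +kernel

set_option maxHeartbeats 0 in
theorem chk267 : checkAll T eqPairs 16 12 306936 273408 1024 = true := by
  decide +kernel

set_option maxHeartbeats 0 in
theorem chk268 : checkAll T eqPairs 16 12 306936 274432 1024 = true := by
  decide +kernel

set_option maxHeartbeats 0 in
theorem chk269 : checkAll T eqPairs 16 12 306936 275456 1024 = true := by
  decide +kernel

set_option maxHeartbeats 0 in
theorem chk270 : checkAll T eqPairs 16 12 306936 276480 1024 = true := by
  decide +kernel

set_option maxHeartbeats 0 in
theorem chk271 : checkAll T eqPairs 16 12 306936 277504 1024 = true := by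
  decide +kernel

end Cfsg.Agent.Lib.H6.FiPerm
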