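import Cfsg.Agent.Lib.H6.FiPerm.Tab

set_option autoImplicit false
set_option maxRecDepth 1000000

/-! # checks, part 34 (generated) -/

namespace Cfsg.Agent.Lib.H6.FiPerm

open Cfsg.Agent.Lib.H17.CosetCert Cfsg.Agent.Lib.H6.PermTab Cfsg.Agent.Lib.H6.PermFast

set_option maxHeartbeats 0 in
theorem chk272 : checkAll T eqPairs 16 12 306936 278528 1024 = true := by
  decide +kernel

set_option maxHeartbeats 0 in
theorem chk273 : checkAll T eqPairs 16 12 306936 279552 1024 = true := by
  decide +kernel

set_option maxHeartbeats 0 in
theorem chk274 : checkAll T eqPairs 16 12 306936 280576 1024 = true := by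
  decide +kernel

set_option maxHeartbeats 0 in
theorem chk275 : checkAll T eqPairs 16 12 306936 281600 1024 = true := by
  decide +kernel

set_option maxHeartbeats 0 in
theorem chk276 : checkAll T eqPairs 16 12 306936 282624 1024 = true := by
  decide +kernel

set_option maxHeartbeats 0 in
theorem chk277 : checkAll T eqPairs 16 12 306936 283648 1024 = true := by
  decide +kernel

set_option maxHeartbeats 0 in
theorem chk278 : checkAll T eqPairs 16 12 306936 284672 1024 = true := by
  decide +kernel

set_option maxHeartbeats 0 in
theorem chk279 : checkAll T eqPairs 16 12 306936 285696 1024 = true := by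
  decide +kernel

end Cfsg.Agent.Lib.H6.FiPerm
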