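import Cfsg.Agent.Lib.H6.FiPerm.Tab

set_option autoImplicit false
set_option maxRecDepth 1000000

/-! # checks, part 35 (generated) -/

namespace Cfsg.Agent.Lib.H6.FiPerm

open Cfsg.Agent.Lib.H17.CosetCert Cfsg.Agent.Lib.H6.PermTab Cfsg.Agent.Lib.H6.PermFast

set_option maxHeartbeats 0 in
theorem chk280 : checkAll T eqPairs 16 12 306936 286720 1024 = true := by
  decide +kernel

set_option maxHeartbeats 0 in
theorem chk281 : checkAll T eqPairs 16 12 306936 287744 1024 = true := by
  decide +kernel

set_option maxHeartbeats 0 in
theorem chk282 : checkAll T eqPairs 16 12 306936 288768 1024 = true := by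
  decide +kernel

set_option maxHeartbeats 0 in
theorem chk283 : checkAll T eqPairs 16 12 306936 289792 1024 = true := by
  decide +kernel

set_option maxHeartbeats 0 in
theorem chk284 : checkAll T eqPairs 16 12 306936 290816 1024 = true := by
  decide +kernel

set_option maxHeartbeats 0 in
theorem chk285 : checkAll T eqPairs 16 12 306936 291840 1024 = true := by
  decide +kernel

set_option maxHeartbeats 0 in
theorem chk286 : checkAll T eqPairs 16 12 306936 292864 1024 = true := by
  decide +kernel

set_option maxHeartbeats 0 in
theorem chk287 : checkAll T eqPairs 16 12 306936 293888 1024 = true := by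
  decide +kernel

end Cfsg.Agent.Lib.H6.FiPerm
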