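import Cfsg.Agent.Lib.H6.FiPerm.Tab

set_option autoImplicit false
set_option maxRecDepth 1000000

/-! # checks, part 36 (generated) -/

namespace Cfsg.Agent.Lib.H6.FiPerm

open Cfsg.Agent.Lib.H17.CosetCert Cfsg.Agent.Lib.H6.PermTab Cfsg.Agent.Lib.H6.PermFast

set_option maxHeartbeats 0 in
theorem chk288 : checkAll T eqPairs 16 12 306936 294912 1024 = true := by
  decide +kernel

set_option maxHeartbeats 0 in
theorem chk289 : checkAll T eqPairs 16 12 306936 295936 1024 = true := by
  decide +kernel

set_option maxHeartbeats 0 in
theorem chk290 : checkAll T eqPairs 16 12 306936 296960 1024 = true := by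
  decide +kernel

set_option maxHeartbeats 0 in
theorem chk291 : checkAll T eqPairs 16 12 306936 297984 1024 = true := by
  decide +kernel

set_option maxHeartbeats 0 in
theorem chk292 : checkAll T eqPairs 16 12 306936 299008 1024 = true := by
  decide +kernel

set_option maxHeartbeats 0 in
theorem chk293 : checkAll T eqPairs 16 12 306936 300032 1024 = true := by
  decide +kernel

set_option maxHeartbeats 0 in
theorem chk294 : checkAll T eqPairs 16 12 306936 301056 1024 = true := by
  decide +kernel

set_option maxHeartbeats 0 in
theorem chk295 : checkAll T eqPairs 16 12 306936 302080 1024 = true := by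
  decide +kernel

end Cfsg.Agent.Lib.H6.FiPerm
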