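import Cfsg.Agent.Lib.H6.FiPerm.Tab

set_option autoImplicit false
set_option maxRecDepth 1000000

/-! # checks, part 5 (generated) -/

namespace Cfsg.Agent.Lib.H6.FiPerm

open Cfsg.Agent.Lib.H17.CosetCert Cfsg.Agent.Lib.H6.PermTab Cfsg.Agent.Lib.H6.PermFast

set_option maxHeartbeats 0 in
theorem chk40 : checkAll T eqPairs 16 12 306936 40960 1024 = true := by
  decide +kernel

set_option maxHeartbeats 0 in
theorem chk41 : checkAll T eqPairs 16 12 306936 41984 1024 = true := by
  decide +kernel

set_option maxHeartbeats 0 in
theorem chk42 : checkAll T eqPairs 16 12 306936 43008 1024 = true := by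
  decide +kernel

set_option maxHeartbeats 0 in
theorem chk43 : checkAll T eqPairs 16 12 306936 44032 1024 = true := by
  decide +kernel

set_option maxHeartbeats 0 in
theorem chk44 : checkAll T eqPairs 16 12 306936 45056 1024 = true := by
  decide +kernel

set_option maxHeartbeats 0 in
theorem chk45 : checkAll T eqPairs 16 12 306936 46080 1024 = true := by
  decide +kernel

set_option maxHeartbeats 0 in
theorem chk46 : checkAll T eqPairs 16 12 306936 47104 1024 = true := by
  decide +kernel

set_option maxHeartbeats 0 in
theorem chk47 : checkAll T eqPairs 16 12 306936 48128 1024 = true := by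
  decide +kernel

end Cfsg.Agent.Lib.H6.FiPerm
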