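import Cfsg.Agent.Lib.H6.FiPerm.Tab

set_option autoImplicit false
set_option maxRecDepth 1000000

/-! # checks, part 8 (generated) -/

namespace Cfsg.Agent.Lib.H6.FiPerm

open Cfsg.Agent.Lib.H17.CosetCert Cfsg.Agent.Lib.H6.PermTab Cfsg.Agent.Lib.H6.PermFast

set_option maxHeartbeats 0 in
theorem chk64 : checkAll T eqPairs 16 12 306936 65536 1024 = true := by
  decide +kernel

set_option maxHeartbeats 0 in
theorem chk65 : checkAll T eqPairs 16 12 306936 66560 1024 = true := by
  decide +kernel

set_option maxHeartbeats 0 in
theorem chk66 : checkAll T eqPairs 16 12 306936 67584 1024 = true := by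
  decide +kernel

set_option maxHeartbeats 0 in
theorem chk67 : checkAll T eqPairs 16 12 306936 68608 1024 = true := by
  decide +kernel

set_option maxHeartbeats 0 in
theorem chk68 : checkAll T eqPairs 16 12 306936 69632 1024 = true := by
  decide +kernel

set_option maxHeartbeats 0 in
theorem chk69 : checkAll T eqPairs 16 12 306936 70656 1024 = true := by
  decide +kernel

set_option maxHeartbeats 0 in
theorem chk70 : checkAll T eqPairs 16 12 306936 71680 1024 = true := by
  decide +kernel

set_option maxHeartbeats 0 in
theorem chk71 : checkAll T eqPairs 16 12 306936 72704 1024 = true := by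
  decide +kernel

end Cfsg.Agent.Lib.H6.FiPerm
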