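import Cfsg.Agent.Lib.H6.FiPerm.Tab

set_option autoImplicit false
set_option maxRecDepth 1000000

/-! # checks, part 9 (generated) -/

namespace Cfsg.Agent.Lib.H6.FiPerm

open Cfsg.Agent.Lib.H17.CosetCert Cfsg.Agent.Lib.H6.PermTab Cfsg.Agent.Lib.H6.PermFast

set_option maxHeartbeats 0 in
theorem chk72 : checkAll T eqPairs 16 12 306936 73728 1024 = true := by
  decide +kernel

set_option maxHeartbeats 0 in
theorem chk73 : checkAll T eqPairs 16 12 306936 74752 1024 = true := by
  decide +kernel

set_option maxHeartbeats 0 in
theorem chk74 : checkAll T eqPairs 16 12 306936 75776 1024 = true := by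
  decide +kernel

set_option maxHeartbeats 0 in
theorem chk75 : checkAll T eqPairs 16 12 306936 76800 1024 = true := by
  decide +kernel

set_option maxHeartbeats 0 in
theorem chk76 : checkAll T eqPairs 16 12 306936 77824 1024 = true := by
  decide +kernel

set_option maxHeartbeats 0 in
theorem chk77 : checkAll T eqPairs 16 12 306936 78848 1024 = true := by
  decide +kernel

set_option maxHeartbeats 0 in
theorem chk78 : checkAll T eqPairs 16 12 306936 79872 1024 = true := by
  decide +kernel

set_option maxHeartbeats 0 in
theorem chk79 : checkAll T eqPairs 16 12 306936 80896 1024 = true := by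
  decide +kernel

end Cfsg.Agent.Lib.H6.FiPerm
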