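import Cfsg.Agent.Lib.H6.FiPerm.Chk0
import Cfsg.Agent.Lib.H6.FiPerm.Chk1
import Cfsg.Agent.Lib.H6.FiPerm.Chk2
import Cfsg.Agent.Lib.H6.FiPerm.Chk3
import Cfsg.Agent.Lib.H6.FiPerm.Chk4
import Cfsg.Agent.Lib.H6.FiPerm.Chk5
import Cfsg.Agent.Lib.H6.FiPerm.Chk6
import Cfsg.Agent.Lib.H6.FiPerm.Chk7
import Cfsg.Agent.Lib.H6.FiPerm.Chk8
import Cfsg.Agent.Lib.H6.FiPerm.Chk9
import Cfsg.Agent.Lib.H6.FiPerm.Chk10
import Cfsg.Agent.Lib.H6.FiPerm.Chk11
import Cfsg.Agent.Lib.H6.FiPerm.Chk12
import Cfsg.Agent.Lib.H6.FiPerm.Chk13
import Cfsg.Agent.Lib.H6.FiPerm.Chk14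
import Cfsg.Agent.Lib.H6.FiPerm.Chk15
import Cfsg.Agent.Lib.H6.FiPerm.Chk16
import Cfsg.Agent.Lib.H6.FiPerm.Chk17
import Cfsg.Agent.Lib.H6.FiPerm.Chk18
import Cfsg.Agent.Lib.H6.FiPerm.Chk19
import Cfsg.Agent.Lib.H6.FiPerm.Chk20
import Cfsg.Agent.Lib.H6.FiPerm.Chk21
import Cfsg.Agent.Lib.H6.FiPerm.Chk22
import Cfsg.Agent.Lib.H6.FiPerm.Chk23
import Cfsg.Agent.Lib.H6.FiPerm.Chk24
import Cfsg.Agent.Lib.H6.FiPerm.Chk25
import Cfsg.Agent.Lib.H6.FiPerm.Chk26
import Cfsg.Agent.Lib.H6.FiPerm.Chk27
import Cfsg.Agent.Lib.H6.FiPerm.Chk28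
import Cfsg.Agent.Lib.H6.FiPerm.Chk29
import Cfsg.Agent.Lib.H6.FiPerm.Chk30
import Cfsg.Agent.Lib.H6.FiPerm.Chk31
import Cfsg.Agent.Lib.H6.FiPerm.Chk32
import Cfsg.Agent.Lib.H6.FiPerm.Chk33
import Cfsg.Agent.Lib.H6.FiPerm.Chk34
import Cfsg.Agent.Lib.H6.FiPerm.Chk35
import Cfsg.Agent.Lib.H6.FiPerm.Chk36
import Cfsg.Agent.Lib.H6.FiPerm.Chk37

set_option autoImplicit false
set_option maxRecDepth 1000000

/-! # the tables are good (generated) -/

namespace Cfsg.Agent.Lib.H6.FiPerm

open Cfsg.Agent.Lib.H17.CosetCert Cfsg.Agent.Lib.H6.PermTab Cfsg.Agent.Lib.H6.PermFast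

/-- the number of points -/
abbrev n : ℕ := 306936

set_option maxHeartbeats 0 in
theorem all_chunks : ∀ i < 306936, (∀ p ∈ eqPairs, applyW T p.1 i = applyW T p.2 i) ∧
    (∀ x < 16, T x i < 306936) ∧ (i ≠ 0 → ∃ x < 12, T x i < i) := by
  intro i hi
  have hk : i / 1024 < 300 := by omega
  have h1 : i / 1024 * 1024 ≤ i := Nat.div_mul_le_self i 1024
  have h2 : i < i / 1024 * 1024 + 1024 := by have := Nat.lt_div_mul_add (a := i) (b := 1024) (by norm_num); omega
  generalize i / 1024 = k at hk h1 h2
  interval_cases k
  · have h := checkAll_sound T eqPairs 16 12 306936 _ _ chk0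
    exact ⟨fun p hp => h.1 p hp i (by omega) (by omega), h.2.1 i (by omega) (by omega), h.2.2 i (by omega) (by omega)⟩
  · have h := checkAll_sound T eqPairs 16 12 306936 _ _ chk1
    exact ⟨fun p hp => h.1 p hp i (by omega) (by omega), h.2.1 i (by omega) (by omega), h.2.2 i (by omega) (by omega)⟩
  · have h := checkAll_sound T eqPairs 16 12 306936 _ _ chk2
    exact ⟨fun p hp => h.1 p hp i (by omega) (by omega), h.2.1 i (by omega) (by omega), h.2.2 i (by omega) (by omega)⟩
  · have h := checkAll_sound T eqPairs 16 12 306936 _ _ chk3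
    exact ⟨fun p hp => h.1 p hp i (by omega) (by omega), h.2.1 i (by omega) (by omega), h.2.2 i (by omega) (by omega)⟩
  · have h := checkAll_sound T eqPairs 16 12 306936 _ _ chk4
    exact ⟨fun p hp => h.1 p hp i (by omega) (by omega), h.2.1 i (by omega) (by omega), h.2.2 i (by omega) (by omega)⟩
  · have h := checkAll_sound T eqPairs 16 12 306936 _ _ chk5
    exact ⟨fun p hp => h.1 p hp i (by omega) (by omega), h.2.1 i (by omega) (by omega), h.2.2 i (by omega) (by omega)⟩
  · have h := checkAll_sound T eqPairs 16 12 306936 _ _ chk6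
    exact ⟨fun p hp => h.1 p hp i (by omega) (by omega), h.2.1 i (by omega) (by omega), h.2.2 i (by omega) (by omega)⟩
  · have h := checkAll_sound T eqPairs 16 12 306936 _ _ chk7
    exact ⟨fun p hp => h.1 p hp i (by omega) (by omega), h.2.1 i (by omega) (by omega), h.2.2 i (by omega) (by omega)⟩
  · have h := checkAll_sound T eqPairs 16 12 306936 _ _ chk8
    exact ⟨fun p hp => h.1 p hp i (by omega) (by omega), h.2.1 i (by omega) (by omega), h.2.2 i (by omega) (by omega)⟩
  · have h := checkAll_sound T eqPairs 16 12 306936 _ _ chk9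
    exact ⟨fun p hp => h.1 p hp i (by omega) (by omega), h.2.1 i (by omega) (by omega), h.2.2 i (by omega) (by omega)⟩
  · have h := checkAll_sound T eqPairs 16 12 306936 _ _ chk10
    exact ⟨fun p hp => h.1 p hp i (by omega) (by omega), h.2.1 i (by omega) (by omega), h.2.2 i (by omega) (by omega)⟩
  · have h := checkAll_sound T eqPairs 16 12 306936 _ _ chk11
    exact ⟨fun p hp => h.1 p hp i (by omega) (by omega), h.2.1 i (by omega) (by omega), h.2.2 i (by omega) (by omega)⟩
  · have h := checkAll_sound T eqPairs 16 12 306936 _ _ chk12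
    exact ⟨fun p hp => h.1 p hp i (by omega) (by omega), h.2.1 i (by omega) (by omega), h.2.2 i (by omega) (by omega)⟩
  · have h := checkAll_sound T eqPairs 16 12 306936 _ _ chk13
    exact ⟨fun p hp => h.1 p hp i (by omega) (by omega), h.2.1 i (by omega) (by omega), h.2.2 i (by omega) (by omega)⟩
  · have h := checkAll_sound T eqPairs 16 12 306936 _ _ chk14
    exact ⟨fun p hp => h.1 p hp i (by omega) (by omega), h.2.1 i (by omega) (by omega), h.2.2 i (by omega) (by omega)⟩
  · have h := checkAll_sound T eqPairs 16 12 306936 _ _ chk15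
    exact ⟨fun p hp => h.1 p hp i (by omega) (by omega), h.2.1 i (by omega) (by omega), h.2.2 i (by omega) (by omega)⟩
  · have h := checkAll_sound T eqPairs 16 12 306936 _ _ chk16
    exact ⟨fun p hp => h.1 p hp i (by omega) (by omega), h.2.1 i (by omega) (by omega), h.2.2 i (by omega) (by omega)⟩
  · have h := checkAll_sound T eqPairs 16 12 306936 _ _ chk17
    exact ⟨fun p hp => h.1 p hp i (by omega) (by omega), h.2.1 i (by omega) (by omega), h.2.2 i (by omega) (by omega)⟩
  · have h := checkAll_sound T eqPairs 16 12 306936 _ _ chk18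
    exact ⟨fun p hp => h.1 p hp i (by omega) (by omega), h.2.1 i (by omega) (by omega), h.2.2 i (by omega) (by omega)⟩
  · have h := checkAll_sound T eqPairs 16 12 306936 _ _ chk19
    exact ⟨fun p hp => h.1 p hp i (by omega) (by omega), h.2.1 i (by omega) (by omega), h.2.2 i (by omega) (by omega)⟩
  · have h := checkAll_sound T eqPairs 16 12 306936 _ _ chk20
    exact ⟨fun p hp => h.1 p hp i (by omega) (by omega), h.2.1 i (by omega) (by omega), h.2.2 i (by omega) (by omega)⟩
  · have h := checkAll_sound T eqPairs 16 12 306936 _ _ chk21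
    exact ⟨fun p hp => h.1 p hp i (by omega) (by omega), h.2.1 i (by omega) (by omega), h.2.2 i (by omega) (by omega)⟩
  · have h := checkAll_sound T eqPairs 16 12 306936 _ _ chk22
    exact ⟨fun p hp => h.1 p hp i (by omega) (by omega), h.2.1 i (by omega) (by omega), h.2.2 i (by omega) (by omega)⟩
  · have h := checkAll_sound T eqPairs 16 12 306936 _ _ chk23
    exact ⟨fun p hp => h.1 p hp i (by omega) (by omega), h.2.1 i (by omega) (by omega), h.2.2 i (by omega) (by omega)⟩
  · have h := checkAll_sound T eqPairs 16 12 306936 _ _ chk24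
    exact ⟨fun p hp => h.1 p hp i (by omega) (by omega), h.2.1 i (by omega) (by omega), h.2.2 i (by omega) (by omega)⟩
  · have h := checkAll_sound T eqPairs 16 12 306936 _ _ chk25
    exact ⟨fun p hp => h.1 p hp i (by omega) (by omega), h.2.1 i (by omega) (by omega), h.2.2 i (by omega) (by omega)⟩
  · have h := checkAll_sound T eqPairs 16 12 306936 _ _ chk26
    exact ⟨fun p hp => h.1 p hp i (by omega) (by omega), h.2.1 i (by omega) (by omega), h.2.2 i (by omega) (by omega)⟩
  · have h := checkAll_sound T eqPairs 16 12 306936 _ _ chk27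
    exact ⟨fun p hp => h.1 p hp i (by omega) (by omega), h.2.1 i (by omega) (by omega), h.2.2 i (by omega) (by omega)⟩
  · have h := checkAll_sound T eqPairs 16 12 306936 _ _ chk28
    exact ⟨fun p hp => h.1 p hp i (by omega) (by omega), h.2.1 i (by omega) (by omega), h.2.2 i (by omega) (by omega)⟩
  · have h := checkAll_sound T eqPairs 16 12 306936 _ _ chk29
    exact ⟨fun p hp => h.1 p hp i (by omega) (by omega), h.2.1 i (by omega) (by omega), h.2.2 i (by omega) (by omega)⟩
  · have h := checkAll_sound T eqPairs 16 12 306936 _ _ chk30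
    exact ⟨fun p hp => h.1 p hp i (by omega) (by omega), h.2.1 i (by omega) (by omega), h.2.2 i (by omega) (by omega)⟩
  · have h := checkAll_sound T eqPairs 16 12 306936 _ _ chk31
    exact ⟨fun p hp => h.1 p hp i (by omega) (by omega), h.2.1 i (by omega) (by omega), h.2.2 i (by omega) (by omega)⟩
  · have h := checkAll_sound T eqPairs 16 12 306936 _ _ chk32
    exact ⟨fun p hp => h.1 p hp i (by omega) (by omega), h.2.1 i (by omega) (by omega), h.2.2 i (by omega) (by omega)⟩
  · have h := checkAll_sound T eqPairs 16 12 306936 _ _ chk33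
    exact ⟨fun p hp => h.1 p hp i (by omega) (by omega), h.2.1 i (by omega) (by omega), h.2.2 i (by omega) (by omega)⟩
  · have h := checkAll_sound T eqPairs 16 12 306936 _ _ chk34
    exact ⟨fun p hp => h.1 p hp i (by omega) (by omega), h.2.1 i (by omega) (by omega), h.2.2 i (by omega) (by omega)⟩
  · have h := checkAll_sound T eqPairs 16 12 306936 _ _ chk35
    exact ⟨fun p hp => h.1 p hp i (by omega) (by omega), h.2.1 i (by omega) (by omega), h.2.2 i (by omega) (by omega)⟩
  · have h := checkAll_sound T eqPairs 16 12 306936 _ _ chk36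
    exact ⟨fun p hp => h.1 p hp i (by omega) (by omega), h.2.1 i (by omega) (by omega), h.2.2 i (by omega) (by omega)⟩
  · have h := checkAll_sound T eqPairs 16 12 306936 _ _ chk37
    exact ⟨fun p hp => h.1 p hp i (by omega) (by omega), h.2.1 i (by omega) (by omega), h.2.2 i (by omega) (by omega)⟩
  · have h := checkAll_sound T eqPairs 16 12 306936 _ _ chk38
    exact ⟨fun p hp => h.1 p hp i (by omega) (by omega), h.2.1 i (by omega) (by omega), h.2.2 i (by omega) (by omega)⟩
  · have h := checkAll_sound T eqPairs 16 12 306936 _ _ chk39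
    exact ⟨fun p hp => h.1 p hp i (by omega) (by omega), h.2.1 i (by omega) (by omega), h.2.2 i (by omega) (by omega)⟩
  · have h := checkAll_sound T eqPairs 16 12 306936 _ _ chk40
    exact ⟨fun p hp => h.1 p hp i (by omega) (by omega), h.2.1 i (by omega) (by omega), h.2.2 i (by omega) (by omega)⟩
  · have h := checkAll_sound T eqPairs 16 12 306936 _ _ chk41
    exact ⟨fun p hp => h.1 p hp i (by omega) (by omega), h.2.1 i (by omega) (by omega), h.2.2 i (by omega) (by omega)⟩
  · have h := checkAll_sound T eqPairs 16 12 306936 _ _ chk42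
    exact ⟨fun p hp => h.1 p hp i (by omega) (by omega), h.2.1 i (by omega) (by omega), h.2.2 i (by omega) (by omega)⟩
  · have h := checkAll_sound T eqPairs 16 12 306936 _ _ chk43
    exact ⟨fun p hp => h.1 p hp i (by omega) (by omega), h.2.1 i (by omega) (by omega), h.2.2 i (by omega) (by omega)⟩
  · have h := checkAll_sound T eqPairs 16 12 306936 _ _ chk44
    exact ⟨fun p hp => h.1 p hp i (by omega) (by omega), h.2.1 i (by omega) (by omega), h.2.2 i (by omega) (by omega)⟩
  · have h := checkAll_sound T eqPairs 16 12 306936 _ _ chk45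
    exact ⟨fun p hp => h.1 p hp i (by omega) (by omega), h.2.1 i (by omega) (by omega), h.2.2 i (by omega) (by omega)⟩
  · have h := checkAll_sound T eqPairs 16 12 306936 _ _ chk46
    exact ⟨fun p hp => h.1 p hp i (by omega) (by omega), h.2.1 i (by omega) (by omega), h.2.2 i (by omega) (by omega)⟩
  · have h := checkAll_sound T eqPairs 16 12 306936 _ _ chk47
    exact ⟨fun p hp => h.1 p hp i (by omega) (by omega), h.2.1 i (by omega) (by omega), h.2.2 i (by omega) (by omega)⟩
  · have h := checkAll_sound T eqPairs 16 12 306936 _ _ chk48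
    exact ⟨fun p hp => h.1 p hp i (by omega) (by omega), h.2.1 i (by omega) (by omega), h.2.2 i (by omega) (by omega)⟩
  · have h := checkAll_sound T eqPairs 16 12 306936 _ _ chk49
    exact ⟨fun p hp => h.1 p hp i (by omega) (by omega), h.2.1 i (by omega) (by omega), h.2.2 i (by omega) (by omega)⟩
  · have h := checkAll_sound T eqPairs 16 12 306936 _ _ chk50
    exact ⟨fun p hp => h.1 p hp i (by omega) (by omega), h.2.1 i (by omega) (by omega), h.2.2 i (by omega) (by omega)⟩
  · have h := checkAll_sound T eqPairs 16 12 306936 _ _ chk51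
    exact ⟨fun p hp => h.1 p hp i (by omega) (by omega), h.2.1 i (by omega) (by omega), h.2.2 i (by omega) (by omega)⟩
  · have h := checkAll_sound T eqPairs 16 12 306936 _ _ chk52
    exact ⟨fun p hp => h.1 p hp i (by omega) (by omega), h.2.1 i (by omega) (by omega), h.2.2 i (by omega) (by omega)⟩
  · have h := checkAll_sound T eqPairs 16 12 306936 _ _ chk53
    exact ⟨fun p hp => h.1 p hp i (by omega) (by omega), h.2.1 i (by omega) (by omega), h.2.2 i (by omega) (by omega)⟩
  · have h := checkAll_sound T eqPairs 16 12 306936 _ _ chk54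
    exact ⟨fun p hp => h.1 p hp i (by omega) (by omega), h.2.1 i (by omega) (by omega), h.2.2 i (by omega) (by omega)⟩
  · have h := checkAll_sound T eqPairs 16 12 306936 _ _ chk55
    exact ⟨fun p hp => h.1 p hp i (by omega) (by omega), h.2.1 i (by omega) (by omega), h.2.2 i (by omega) (by omega)⟩
  · have h := checkAll_sound T eqPairs 16 12 306936 _ _ chk56
    exact ⟨fun p hp => h.1 p hp i (by omega) (by omega), h.2.1 i (by omega) (by omega), h.2.2 i (by omega) (by omega)⟩
  · have h := checkAll_sound T eqPairs 16 12 306936 _ _ chk57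
    exact ⟨fun p hp => h.1 p hp i (by omega) (by omega), h.2.1 i (by omega) (by omega), h.2.2 i (by omega) (by omega)⟩
  · have h := checkAll_sound T eqPairs 16 12 306936 _ _ chk58
    exact ⟨fun p hp => h.1 p hp i (by omega) (by omega), h.2.1 i (by omega) (by omega), h.2.2 i (by omega) (by omega)⟩
  · have h := checkAll_sound T eqPairs 16 12 306936 _ _ chk59
    exact ⟨fun p hp => h.1 p hp i (by omega) (by omega), h.2.1 i (by omega) (by omega), h.2.2 i (by omega) (by omega)⟩
  · have h := checkAll_sound T eqPairs 16 12 306936 _ _ chk60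
    exact ⟨fun p hp => h.1 p hp i (by omega) (by omega), h.2.1 i (by omega) (by omega), h.2.2 i (by omega) (by omega)⟩
  · have h := checkAll_sound T eqPairs 16 12 306936 _ _ chk61
    exact ⟨fun p hp => h.1 p hp i (by omega) (by omega), h.2.1 i (by omega) (by omega), h.2.2 i (by omega) (by omega)⟩
  · have h := checkAll_sound T eqPairs 16 12 306936 _ _ chk62
    exact ⟨fun p hp => h.1 p hp i (by omega) (by omega), h.2.1 i (by omega) (by omega), h.2.2 i (by omega) (by omega)⟩
  · have h := checkAll_sound T eqPairs 16 12 306936 _ _ chk63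
    exact ⟨fun p hp => h.1 p hp i (by omega) (by omega), h.2.1 i (by omega) (by omega), h.2.2 i (by omega) (by omega)⟩
  · have h := checkAll_sound T eqPairs 16 12 306936 _ _ chk64
    exact ⟨fun p hp => h.1 p hp i (by omega) (by omega), h.2.1 i (by omega) (by omega), h.2.2 i (by omega) (by omega)⟩
  · have h := checkAll_sound T eqPairs 16 12 306936 _ _ chk65
    exact ⟨fun p hp => h.1 p hp i (by omega) (by omega), h.2.1 i (by omega) (by omega), h.2.2 i (by omega) (by omega)⟩
  · have h := checkAll_sound T eqPairs 16 12 306936 _ _ chk66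
    exact ⟨fun p hp => h.1 p hp i (by omega) (by omega), h.2.1 i (by omega) (by omega), h.2.2 i (by omega) (by omega)⟩
  · have h := checkAll_sound T eqPairs 16 12 306936 _ _ chk67
    exact ⟨fun p hp => h.1 p hp i (by omega) (by omega), h.2.1 i (by omega) (by omega), h.2.2 i (by omega) (by omega)⟩
  · have h := checkAll_sound T eqPairs 16 12 306936 _ _ chk68
    exact ⟨fun p hp => h.1 p hp i (by omega) (by omega), h.2.1 i (by omega) (by omega), h.2.2 i (by omega) (by omega)⟩
  · have h := checkAll_sound T eqPairs 16 12 306936 _ _ chk69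
    exact ⟨fun p hp => h.1 p hp i (by omega) (by omega), h.2.1 i (by omega) (by omega), h.2.2 i (by omega) (by omega)⟩
  · have h := checkAll_sound T eqPairs 16 12 306936 _ _ chk70
    exact ⟨fun p hp => h.1 p hp i (by omega) (by omega), h.2.1 i (by omega) (by omega), h.2.2 i (by omega) (by omega)⟩
  · have h := checkAll_sound T eqPairs 16 12 306936 _ _ chk71
    exact ⟨fun p hp => h.1 p hp i (by omega) (by omega), h.2.1 i (by omega) (by omega), h.2.2 i (by omega) (by omega)⟩
  · have h := checkAll_sound T eqPairs 16 12 306936 _ _ chk72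
    exact ⟨fun p hp => h.1 p hp i (by omega) (by omega), h.2.1 i (by omega) (by omega), h.2.2 i (by omega) (by omega)⟩
  · have h := checkAll_sound T eqPairs 16 12 306936 _ _ chk73
    exact ⟨fun p hp => h.1 p hp i (by omega) (by omega), h.2.1 i (by omega) (by omega), h.2.2 i (by omega) (by omega)⟩
  · have h := checkAll_sound T eqPairs 16 12 306936 _ _ chk74
    exact ⟨fun p hp => h.1 p hp i (by omega) (by omega), h.2.1 i (by omega) (by omega), h.2.2 i (by omega) (by omega)⟩
  · have h := checkAll_sound T eqPairs 16 12 306936 _ _ chk75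
    exact ⟨fun p hp => h.1 p hp i (by omega) (by omega), h.2.1 i (by omega) (by omega), h.2.2 i (by omega) (by omega)⟩
  · have h := checkAll_sound T eqPairs 16 12 306936 _ _ chk76
    exact ⟨fun p hp => h.1 p hp i (by omega) (by omega), h.2.1 i (by omega) (by omega), h.2.2 i (by omega) (by omega)⟩
  · have h := checkAll_sound T eqPairs 16 12 306936 _ _ chk77
    exact ⟨fun p hp => h.1 p hp i (by omega) (by omega), h.2.1 i (by omega) (by omega), h.2.2 i (by omega) (by omega)⟩
  · have h := checkAll_sound T eqPairs 16 12 306936 _ _ chk78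
    exact ⟨fun p hp => h.1 p hp i (by omega) (by omega), h.2.1 i (by omega) (by omega), h.2.2 i (by omega) (by omega)⟩
  · have h := checkAll_sound T eqPairs 16 12 306936 _ _ chk79
    exact ⟨fun p hp => h.1 p hp i (by omega) (by omega), h.2.1 i (by omega) (by omega), h.2.2 i (by omega) (by omega)⟩
  · have h := checkAll_sound T eqPairs 16 12 306936 _ _ chk80
    exact ⟨fun p hp => h.1 p hp i (by omega) (by omega), h.2.1 i (by omega) (by omega), h.2.2 i (by omega) (by omega)⟩
  · have h := checkAll_sound T eqPairs 16 12 306936 _ _ chk81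
    exact ⟨fun p hp => h.1 p hp i (by omega) (by omega), h.2.1 i (by omega) (by omega), h.2.2 i (by omega) (by omega)⟩
  · have h := checkAll_sound T eqPairs 16 12 306936 _ _ chk82
    exact ⟨fun p hp => h.1 p hp i (by omega) (by omega), h.2.1 i (by omega) (by omega), h.2.2 i (by omega) (by omega)⟩
  · have h := checkAll_sound T eqPairs 16 12 306936 _ _ chk83
    exact ⟨fun p hp => h.1 p hp i (by omega) (by omega), h.2.1 i (by omega) (by omega), h.2.2 i (by omega) (by omega)⟩
  · have h := checkAll_sound T eqPairs 16 12 306936 _ _ chk84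
    exact ⟨fun p hp => h.1 p hp i (by omega) (by omega), h.2.1 i (by omega) (by omega), h.2.2 i (by omega) (by omega)⟩
  · have h := checkAll_sound T eqPairs 16 12 306936 _ _ chk85
    exact ⟨fun p hp => h.1 p hp i (by omega) (by omega), h.2.1 i (by omega) (by omega), h.2.2 i (by omega) (by omega)⟩
  · have h := checkAll_sound T eqPairs 16 12 306936 _ _ chk86
    exact ⟨fun p hp => h.1 p hp i (by omega) (by omega), h.2.1 i (by omega) (by omega), h.2.2 i (by omega) (by omega)⟩
  · have h := checkAll_sound T eqPairs 16 12 306936 _ _ chk87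
    exact ⟨fun p hp => h.1 p hp i (by omega) (by omega), h.2.1 i (by omega) (by omega), h.2.2 i (by omega) (by omega)⟩
  · have h := checkAll_sound T eqPairs 16 12 306936 _ _ chk88
    exact ⟨fun p hp => h.1 p hp i (by omega) (by omega), h.2.1 i (by omega) (by omega), h.2.2 i (by omega) (by omega)⟩
  · have h := checkAll_sound T eqPairs 16 12 306936 _ _ chk89
    exact ⟨fun p hp => h.1 p hp i (by omega) (by omega), h.2.1 i (by omega) (by omega), h.2.2 i (by omega) (by omega)⟩
  · have h := checkAll_sound T eqPairs 16 12 306936 _ _ chk90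
    exact ⟨fun p hp => h.1 p hp i (by omega) (by omega), h.2.1 i (by omega) (by omega), h.2.2 i (by omega) (by omega)⟩
  · have h := checkAll_sound T eqPairs 16 12 306936 _ _ chk91
    exact ⟨fun p hp => h.1 p hp i (by omega) (by omega), h.2.1 i (by omega) (by omega), h.2.2 i (by omega) (by omega)⟩
  · have h := checkAll_sound T eqPairs 16 12 306936 _ _ chk92
    exact ⟨fun p hp => h.1 p hp i (by omega) (by omega), h.2.1 i (by omega) (by omega), h.2.2 i (by omega) (by omega)⟩
  · have h := checkAll_sound T eqPairs 16 12 306936 _ _ chk93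
    exact ⟨fun p hp => h.1 p hp i (by omega) (by omega), h.2.1 i (by omega) (by omega), h.2.2 i (by omega) (by omega)⟩
  · have h := checkAll_sound T eqPairs 16 12 306936 _ _ chk94
    exact ⟨fun p hp => h.1 p hp i (by omega) (by omega), h.2.1 i (by omega) (by omega), h.2.2 i (by omega) (by omega)⟩
  · have h := checkAll_sound T eqPairs 16 12 306936 _ _ chk95
    exact ⟨fun p hp => h.1 p hp i (by omega) (by omega), h.2.1 i (by omega) (by omega), h.2.2 i (by omega) (by omega)⟩
  · have h := checkAll_sound T eqPairs 16 12 306936 _ _ chk96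
    exact ⟨fun p hp => h.1 p hp i (by omega) (by omega), h.2.1 i (by omega) (by omega), h.2.2 i (by omega) (by omega)⟩
  · have h := checkAll_sound T eqPairs 16 12 306936 _ _ chk97
    exact ⟨fun p hp => h.1 p hp i (by omega) (by omega), h.2.1 i (by omega) (by omega), h.2.2 i (by omega) (by omega)⟩
  · have h := checkAll_sound T eqPairs 16 12 306936 _ _ chk98
    exact ⟨fun p hp => h.1 p hp i (by omega) (by omega), h.2.1 i (by omega) (by omega), h.2.2 i (by omega) (by omega)⟩
  · have h := checkAll_sound T eqPairs 16 12 306936 _ _ chk99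
    exact ⟨fun p hp => h.1 p hp i (by omega) (by omega), h.2.1 i (by omega) (by omega), h.2.2 i (by omega) (by omega)⟩
  · have h := checkAll_sound T eqPairs 16 12 306936 _ _ chk100
    exact ⟨fun p hp => h.1 p hp i (by omega) (by omega), h.2.1 i (by omega) (by omega), h.2.2 i (by omega) (by omega)⟩
  · have h := checkAll_sound T eqPairs 16 12 306936 _ _ chk101
    exact ⟨fun p hp => h.1 p hp i (by omega) (by omega), h.2.1 i (by omega) (by omega), h.2.2 i (by omega) (by omega)⟩
  · have h := checkAll_sound T eqPairs 16 12 306936 _ _ chk102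
    exact ⟨fun p hp => h.1 p hp i (by omega) (by omega), h.2.1 i (by omega) (by omega), h.2.2 i (by omega) (by omega)⟩
  · have h := checkAll_sound T eqPairs 16 12 306936 _ _ chk103
    exact ⟨fun p hp => h.1 p hp i (by omega) (by omega), h.2.1 i (by omega) (by omega), h.2.2 i (by omega) (by omega)⟩
  · have h := checkAll_sound T eqPairs 16 12 306936 _ _ chk104
    exact ⟨fun p hp => h.1 p hp i (by omega) (by omega), h.2.1 i (by omega) (by omega), h.2.2 i (by omega) (by omega)⟩
  · have h := checkAll_sound T eqPairs 16 12 306936 _ _ chk105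
    exact ⟨fun p hp => h.1 p hp i (by omega) (by omega), h.2.1 i (by omega) (by omega), h.2.2 i (by omega) (by omega)⟩
  · have h := checkAll_sound T eqPairs 16 12 306936 _ _ chk106
    exact ⟨fun p hp => h.1 p hp i (by omega) (by omega), h.2.1 i (by omega) (by omega), h.2.2 i (by omega) (by omega)⟩
  · have h := checkAll_sound T eqPairs 16 12 306936 _ _ chk107
    exact ⟨fun p hp => h.1 p hp i (by omega) (by omega), h.2.1 i (by omega) (by omega), h.2.2 i (by omega) (by omega)⟩
  · have h := checkAll_sound T eqPairs 16 12 306936 _ _ chk108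
    exact ⟨fun p hp => h.1 p hp i (by omega) (by omega), h.2.1 i (by omega) (by omega), h.2.2 i (by omega) (by omega)⟩
  · have h := checkAll_sound T eqPairs 16 12 306936 _ _ chk109
    exact ⟨fun p hp => h.1 p hp i (by omega) (by omega), h.2.1 i (by omega) (by omega), h.2.2 i (by omega) (by omega)⟩
  · have h := checkAll_sound T eqPairs 16 12 306936 _ _ chk110
    exact ⟨fun p hp => h.1 p hp i (by omega) (by omega), h.2.1 i (by omega) (by omega), h.2.2 i (by omega) (by omega)⟩
  · have h := checkAll_sound T eqPairs 16 12 306936 _ _ chk111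
    exact ⟨fun p hp => h.1 p hp i (by omega) (by omega), h.2.1 i (by omega) (by omega), h.2.2 i (by omega) (by omega)⟩
  · have h := checkAll_sound T eqPairs 16 12 306936 _ _ chk112
    exact ⟨fun p hp => h.1 p hp i (by omega) (by omega), h.2.1 i (by omega) (by omega), h.2.2 i (by omega) (by omega)⟩
  · have h := checkAll_sound T eqPairs 16 12 306936 _ _ chk113
    exact ⟨fun p hp => h.1 p hp i (by omega) (by omega), h.2.1 i (by omega) (by omega), h.2.2 i (by omega) (by omega)⟩
  · have h := checkAll_sound T eqPairs 16 12 306936 _ _ chk114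
    exact ⟨fun p hp => h.1 p hp i (by omega) (by omega), h.2.1 i (by omega) (by omega), h.2.2 i (by omega) (by omega)⟩
  · have h := checkAll_sound T eqPairs 16 12 306936 _ _ chk115
    exact ⟨fun p hp => h.1 p hp i (by omega) (by omega), h.2.1 i (by omega) (by omega), h.2.2 i (by omega) (by omega)⟩
  · have h := checkAll_sound T eqPairs 16 12 306936 _ _ chk116
    exact ⟨fun p hp => h.1 p hp i (by omega) (by omega), h.2.1 i (by omega) (by omega), h.2.2 i (by omega) (by omega)⟩
  · have h := checkAll_sound T eqPairs 16 12 306936 _ _ chk117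
    exact ⟨fun p hp => h.1 p hp i (by omega) (by omega), h.2.1 i (by omega) (by omega), h.2.2 i (by omega) (by omega)⟩
  · have h := checkAll_sound T eqPairs 16 12 306936 _ _ chk118
    exact ⟨fun p hp => h.1 p hp i (by omega) (by omega), h.2.1 i (by omega) (by omega), h.2.2 i (by omega) (by omega)⟩
  · have h := checkAll_sound T eqPairs 16 12 306936 _ _ chk119
    exact ⟨fun p hp => h.1 p hp i (by omega) (by omega), h.2.1 i (by omega) (by omega), h.2.2 i (by omega) (by omega)⟩
  · have h := checkAll_sound T eqPairs 16 12 306936 _ _ chk120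
    exact ⟨fun p hp => h.1 p hp i (by omega) (by omega), h.2.1 i (by omega) (by omega), h.2.2 i (by omega) (by omega)⟩
  · have h := checkAll_sound T eqPairs 16 12 306936 _ _ chk121
    exact ⟨fun p hp => h.1 p hp i (by omega) (by omega), h.2.1 i (by omega) (by omega), h.2.2 i (by omega) (by omega)⟩
  · have h := checkAll_sound T eqPairs 16 12 306936 _ _ chk122
    exact ⟨fun p hp => h.1 p hp i (by omega) (by omega), h.2.1 i (by omega) (by omega), h.2.2 i (by omega) (by omega)⟩
  · have h := checkAll_sound T eqPairs 16 12 306936 _ _ chk123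
    exact ⟨fun p hp => h.1 p hp i (by omega) (by omega), h.2.1 i (by omega) (by omega), h.2.2 i (by omega) (by omega)⟩
  · have h := checkAll_sound T eqPairs 16 12 306936 _ _ chk124
    exact ⟨fun p hp => h.1 p hp i (by omega) (by omega), h.2.1 i (by omega) (by omega), h.2.2 i (by omega) (by omega)⟩
  · have h := checkAll_sound T eqPairs 16 12 306936 _ _ chk125
    exact ⟨fun p hp => h.1 p hp i (by omega) (by omega), h.2.1 i (by omega) (by omega), h.2.2 i (by omega) (by omega)⟩
  · have h := checkAll_sound T eqPairs 16 12 306936 _ _ chk126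
    exact ⟨fun p hp => h.1 p hp i (by omega) (by omega), h.2.1 i (by omega) (by omega), h.2.2 i (by omega) (by omega)⟩
  · have h := checkAll_sound T eqPairs 16 12 306936 _ _ chk127
    exact ⟨fun p hp => h.1 p hp i (by omega) (by omega), h.2.1 i (by omega) (by omega), h.2.2 i (by omega) (by omega)⟩
  · have h := checkAll_sound T eqPairs 16 12 306936 _ _ chk128
    exact ⟨fun p hp => h.1 p hp i (by omega) (by omega), h.2.1 i (by omega) (by omega), h.2.2 i (by omega) (by omega)⟩
  · have h := checkAll_sound T eqPairs 16 12 306936 _ _ chk129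
    exact ⟨fun p hp => h.1 p hp i (by omega) (by omega), h.2.1 i (by omega) (by omega), h.2.2 i (by omega) (by omega)⟩
  · have h := checkAll_sound T eqPairs 16 12 306936 _ _ chk130
    exact ⟨fun p hp => h.1 p hp i (by omega) (by omega), h.2.1 i (by omega) (by omega), h.2.2 i (by omega) (by omega)⟩
  · have h := checkAll_sound T eqPairs 16 12 306936 _ _ chk131
    exact ⟨fun p hp => h.1 p hp i (by omega) (by omega), h.2.1 i (by omega) (by omega), h.2.2 i (by omega) (by omega)⟩
  · have h := checkAll_sound T eqPairs 16 12 306936 _ _ chk132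
    exact ⟨fun p hp => h.1 p hp i (by omega) (by omega), h.2.1 i (by omega) (by omega), h.2.2 i (by omega) (by omega)⟩
  · have h := checkAll_sound T eqPairs 16 12 306936 _ _ chk133
    exact ⟨fun p hp => h.1 p hp i (by omega) (by omega), h.2.1 i (by omega) (by omega), h.2.2 i (by omega) (by omega)⟩
  · have h := checkAll_sound T eqPairs 16 12 306936 _ _ chk134
    exact ⟨fun p hp => h.1 p hp i (by omega) (by omega), h.2.1 i (by omega) (by omega), h.2.2 i (by omega) (by omega)⟩
  · have h := checkAll_sound T eqPairs 16 12 306936 _ _ chk135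
    exact ⟨fun p hp => h.1 p hp i (by omega) (by omega), h.2.1 i (by omega) (by omega), h.2.2 i (by omega) (by omega)⟩
  · have h := checkAll_sound T eqPairs 16 12 306936 _ _ chk136
    exact ⟨fun p hp => h.1 p hp i (by omega) (by omega), h.2.1 i (by omega) (by omega), h.2.2 i (by omega) (by omega)⟩
  · have h := checkAll_sound T eqPairs 16 12 306936 _ _ chk137
    exact ⟨fun p hp => h.1 p hp i (by omega) (by omega), h.2.1 i (by omega) (by omega), h.2.2 i (by omega) (by omega)⟩
  · have h := checkAll_sound T eqPairs 16 12 306936 _ _ chk138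
    exact ⟨fun p hp => h.1 p hp i (by omega) (by omega), h.2.1 i (by omega) (by omega), h.2.2 i (by omega) (by omega)⟩
  · have h := checkAll_sound T eqPairs 16 12 306936 _ _ chk139
    exact ⟨fun p hp => h.1 p hp i (by omega) (by omega), h.2.1 i (by omega) (by omega), h.2.2 i (by omega) (by omega)⟩
  · have h := checkAll_sound T eqPairs 16 12 306936 _ _ chk140
    exact ⟨fun p hp => h.1 p hp i (by omega) (by omega), h.2.1 i (by omega) (by omega), h.2.2 i (by omega) (by omega)⟩
  · have h := checkAll_sound T eqPairs 16 12 306936 _ _ chk141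
    exact ⟨fun p hp => h.1 p hp i (by omega) (by omega), h.2.1 i (by omega) (by omega), h.2.2 i (by omega) (by omega)⟩
  · have h := checkAll_sound T eqPairs 16 12 306936 _ _ chk142
    exact ⟨fun p hp => h.1 p hp i (by omega) (by omega), h.2.1 i (by omega) (by omega), h.2.2 i (by omega) (by omega)⟩
  · have h := checkAll_sound T eqPairs 16 12 306936 _ _ chk143
    exact ⟨fun p hp => h.1 p hp i (by omega) (by omega), h.2.1 i (by omega) (by omega), h.2.2 i (by omega) (by omega)⟩
  · have h := checkAll_sound T eqPairs 16 12 306936 _ _ chk144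
    exact ⟨fun p hp => h.1 p hp i (by omega) (by omega), h.2.1 i (by omega) (by omega), h.2.2 i (by omega) (by omega)⟩
  · have h := checkAll_sound T eqPairs 16 12 306936 _ _ chk145
    exact ⟨fun p hp => h.1 p hp i (by omega) (by omega), h.2.1 i (by omega) (by omega), h.2.2 i (by omega) (by omega)⟩
  · have h := checkAll_sound T eqPairs 16 12 306936 _ _ chk146
    exact ⟨fun p hp => h.1 p hp i (by omega) (by omega), h.2.1 i (by omega) (by omega), h.2.2 i (by omega) (by omega)⟩
  · have h := checkAll_sound T eqPairs 16 12 306936 _ _ chk147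
    exact ⟨fun p hp => h.1 p hp i (by omega) (by omega), h.2.1 i (by omega) (by omega), h.2.2 i (by omega) (by omega)⟩
  · have h := checkAll_sound T eqPairs 16 12 306936 _ _ chk148
    exact ⟨fun p hp => h.1 p hp i (by omega) (by omega), h.2.1 i (by omega) (by omega), h.2.2 i (by omega) (by omega)⟩
  · have h := checkAll_sound T eqPairs 16 12 306936 _ _ chk149
    exact ⟨fun p hp => h.1 p hp i (by omega) (by omega), h.2.1 i (by omega) (by omega), h.2.2 i (by omega) (by omega)⟩
  · have h := checkAll_sound T eqPairs 16 12 306936 _ _ chk150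
    exact ⟨fun p hp => h.1 p hp i (by omega) (by omega), h.2.1 i (by omega) (by omega), h.2.2 i (by omega) (by omega)⟩
  · have h := checkAll_sound T eqPairs 16 12 306936 _ _ chk151
    exact ⟨fun p hp => h.1 p hp i (by omega) (by omega), h.2.1 i (by omega) (by omega), h.2.2 i (by omega) (by omega)⟩
  · have h := checkAll_sound T eqPairs 16 12 306936 _ _ chk152
    exact ⟨fun p hp => h.1 p hp i (by omega) (by omega), h.2.1 i (by omega) (by omega), h.2.2 i (by omega) (by omega)⟩
  · have h := checkAll_sound T eqPairs 16 12 306936 _ _ chk153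
    exact ⟨fun p hp => h.1 p hp i (by omega) (by omega), h.2.1 i (by omega) (by omega), h.2.2 i (by omega) (by omega)⟩
  · have h := checkAll_sound T eqPairs 16 12 306936 _ _ chk154
    exact ⟨fun p hp => h.1 p hp i (by omega) (by omega), h.2.1 i (by omega) (by omega), h.2.2 i (by omega) (by omega)⟩
  · have h := checkAll_sound T eqPairs 16 12 306936 _ _ chk155
    exact ⟨fun p hp => h.1 p hp i (by omega) (by omega), h.2.1 i (by omega) (by omega), h.2.2 i (by omega) (by omega)⟩
  · have h := checkAll_sound T eqPairs 16 12 306936 _ _ chk156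
    exact ⟨fun p hp => h.1 p hp i (by omega) (by omega), h.2.1 i (by omega) (by omega), h.2.2 i (by omega) (by omega)⟩
  · have h := checkAll_sound T eqPairs 16 12 306936 _ _ chk157
    exact ⟨fun p hp => h.1 p hp i (by omega) (by omega), h.2.1 i (by omega) (by omega), h.2.2 i (by omega) (by omega)⟩
  · have h := checkAll_sound T eqPairs 16 12 306936 _ _ chk158
    exact ⟨fun p hp => h.1 p hp i (by omega) (by omega), h.2.1 i (by omega) (by omega), h.2.2 i (by omega) (by omega)⟩
  · have h := checkAll_sound T eqPairs 16 12 306936 _ _ chk159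
    exact ⟨fun p hp => h.1 p hp i (by omega) (by omega), h.2.1 i (by omega) (by omega), h.2.2 i (by omega) (by omega)⟩
  · have h := checkAll_sound T eqPairs 16 12 306936 _ _ chk160
    exact ⟨fun p hp => h.1 p hp i (by omega) (by omega), h.2.1 i (by omega) (by omega), h.2.2 i (by omega) (by omega)⟩
  · have h := checkAll_sound T eqPairs 16 12 306936 _ _ chk161
    exact ⟨fun p hp => h.1 p hp i (by omega) (by omega), h.2.1 i (by omega) (by omega), h.2.2 i (by omega) (by omega)⟩
  · have h := checkAll_sound T eqPairs 16 12 306936 _ _ chk162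
    exact ⟨fun p hp => h.1 p hp i (by omega) (by omega), h.2.1 i (by omega) (by omega), h.2.2 i (by omega) (by omega)⟩
  · have h := checkAll_sound T eqPairs 16 12 306936 _ _ chk163
    exact ⟨fun p hp => h.1 p hp i (by omega) (by omega), h.2.1 i (by omega) (by omega), h.2.2 i (by omega) (by omega)⟩
  · have h := checkAll_sound T eqPairs 16 12 306936 _ _ chk164
    exact ⟨fun p hp => h.1 p hp i (by omega) (by omega), h.2.1 i (by omega) (by omega), h.2.2 i (by omega) (by omega)⟩
  · have h := checkAll_sound T eqPairs 16 12 306936 _ _ chk165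
    exact ⟨fun p hp => h.1 p hp i (by omega) (by omega), h.2.1 i (by omega) (by omega), h.2.2 i (by omega) (by omega)⟩
  · have h := checkAll_sound T eqPairs 16 12 306936 _ _ chk166
    exact ⟨fun p hp => h.1 p hp i (by omega) (by omega), h.2.1 i (by omega) (by omega), h.2.2 i (by omega) (by omega)⟩
  · have h := checkAll_sound T eqPairs 16 12 306936 _ _ chk167
    exact ⟨fun p hp => h.1 p hp i (by omega) (by omega), h.2.1 i (by omega) (by omega), h.2.2 i (by omega) (by omega)⟩
  · have h := checkAll_sound T eqPairs 16 12 306936 _ _ chk168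
    exact ⟨fun p hp => h.1 p hp i (by omega) (by omega), h.2.1 i (by omega) (by omega), h.2.2 i (by omega) (by omega)⟩
  · have h := checkAll_sound T eqPairs 16 12 306936 _ _ chk169
    exact ⟨fun p hp => h.1 p hp i (by omega) (by omega), h.2.1 i (by omega) (by omega), h.2.2 i (by omega) (by omega)⟩
  · have h := checkAll_sound T eqPairs 16 12 306936 _ _ chk170
    exact ⟨fun p hp => h.1 p hp i (by omega) (by omega), h.2.1 i (by omega) (by omega), h.2.2 i (by omega) (by omega)⟩
  · have h := checkAll_sound T eqPairs 16 12 306936 _ _ chk171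
    exact ⟨fun p hp => h.1 p hp i (by omega) (by omega), h.2.1 i (by omega) (by omega), h.2.2 i (by omega) (by omega)⟩
  · have h := checkAll_sound T eqPairs 16 12 306936 _ _ chk172
    exact ⟨fun p hp => h.1 p hp i (by omega) (by omega), h.2.1 i (by omega) (by omega), h.2.2 i (by omega) (by omega)⟩
  · have h := checkAll_sound T eqPairs 16 12 306936 _ _ chk173
    exact ⟨fun p hp => h.1 p hp i (by omega) (by omega), h.2.1 i (by omega) (by omega), h.2.2 i (by omega) (by omega)⟩
  · have h := checkAll_sound T eqPairs 16 12 306936 _ _ chk174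
    exact ⟨fun p hp => h.1 p hp i (by omega) (by omega), h.2.1 i (by omega) (by omega), h.2.2 i (by omega) (by omega)⟩
  · have h := checkAll_sound T eqPairs 16 12 306936 _ _ chk175
    exact ⟨fun p hp => h.1 p hp i (by omega) (by omega), h.2.1 i (by omega) (by omega), h.2.2 i (by omega) (by omega)⟩
  · have h := checkAll_sound T eqPairs 16 12 306936 _ _ chk176
    exact ⟨fun p hp => h.1 p hp i (by omega) (by omega), h.2.1 i (by omega) (by omega), h.2.2 i (by omega) (by omega)⟩
  · have h := checkAll_sound T eqPairs 16 12 306936 _ _ chk177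
    exact ⟨fun p hp => h.1 p hp i (by omega) (by omega), h.2.1 i (by omega) (by omega), h.2.2 i (by omega) (by omega)⟩
  · have h := checkAll_sound T eqPairs 16 12 306936 _ _ chk178
    exact ⟨fun p hp => h.1 p hp i (by omega) (by omega), h.2.1 i (by omega) (by omega), h.2.2 i (by omega) (by omega)⟩
  · have h := checkAll_sound T eqPairs 16 12 306936 _ _ chk179
    exact ⟨fun p hp => h.1 p hp i (by omega) (by omega), h.2.1 i (by omega) (by omega), h.2.2 i (by omega) (by omega)⟩
  · have h := checkAll_sound T eqPairs 16 12 306936 _ _ chk180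
    exact ⟨fun p hp => h.1 p hp i (by omega) (by omega), h.2.1 i (by omega) (by omega), h.2.2 i (by omega) (by omega)⟩
  · have h := checkAll_sound T eqPairs 16 12 306936 _ _ chk181
    exact ⟨fun p hp => h.1 p hp i (by omega) (by omega), h.2.1 i (by omega) (by omega), h.2.2 i (by omega) (by omega)⟩
  · have h := checkAll_sound T eqPairs 16 12 306936 _ _ chk182
    exact ⟨fun p hp => h.1 p hp i (by omega) (by omega), h.2.1 i (by omega) (by omega), h.2.2 i (by omega) (by omega)⟩
  · have h := checkAll_sound T eqPairs 16 12 306936 _ _ chk183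
    exact ⟨fun p hp => h.1 p hp i (by omega) (by omega), h.2.1 i (by omega) (by omega), h.2.2 i (by omega) (by omega)⟩
  · have h := checkAll_sound T eqPairs 16 12 306936 _ _ chk184
    exact ⟨fun p hp => h.1 p hp i (by omega) (by omega), h.2.1 i (by omega) (by omega), h.2.2 i (by omega) (by omega)⟩
  · have h := checkAll_sound T eqPairs 16 12 306936 _ _ chk185
    exact ⟨fun p hp => h.1 p hp i (by omega) (by omega), h.2.1 i (by omega) (by omega), h.2.2 i (by omega) (by omega)⟩
  · have h := checkAll_sound T eqPairs 16 12 306936 _ _ chk186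
    exact ⟨fun p hp => h.1 p hp i (by omega) (by omega), h.2.1 i (by omega) (by omega), h.2.2 i (by omega) (by omega)⟩
  · have h := checkAll_sound T eqPairs 16 12 306936 _ _ chk187
    exact ⟨fun p hp => h.1 p hp i (by omega) (by omega), h.2.1 i (by omega) (by omega), h.2.2 i (by omega) (by omega)⟩
  · have h := checkAll_sound T eqPairs 16 12 306936 _ _ chk188
    exact ⟨fun p hp => h.1 p hp i (by omega) (by omega), h.2.1 i (by omega) (by omega), h.2.2 i (by omega) (by omega)⟩
  · have h := checkAll_sound T eqPairs 16 12 306936 _ _ chk189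
    exact ⟨fun p hp => h.1 p hp i (by omega) (by omega), h.2.1 i (by omega) (by omega), h.2.2 i (by omega) (by omega)⟩
  · have h := checkAll_sound T eqPairs 16 12 306936 _ _ chk190
    exact ⟨fun p hp => h.1 p hp i (by omega) (by omega), h.2.1 i (by omega) (by omega), h.2.2 i (by omega) (by omega)⟩
  · have h := checkAll_sound T eqPairs 16 12 306936 _ _ chk191
    exact ⟨fun p hp => h.1 p hp i (by omega) (by omega), h.2.1 i (by omega) (by omega), h.2.2 i (by omega) (by omega)⟩
  · have h := checkAll_sound T eqPairs 16 12 306936 _ _ chk192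
    exact ⟨fun p hp => h.1 p hp i (by omega) (by omega), h.2.1 i (by omega) (by omega), h.2.2 i (by omega) (by omega)⟩
  · have h := checkAll_sound T eqPairs 16 12 306936 _ _ chk193
    exact ⟨fun p hp => h.1 p hp i (by omega) (by omega), h.2.1 i (by omega) (by omega), h.2.2 i (by omega) (by omega)⟩
  · have h := checkAll_sound T eqPairs 16 12 306936 _ _ chk194
    exact ⟨fun p hp => h.1 p hp i (by omega) (by omega), h.2.1 i (by omega) (by omega), h.2.2 i (by omega) (by omega)⟩
  · have h := checkAll_sound T eqPairs 16 12 306936 _ _ chk195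
    exact ⟨fun p hp => h.1 p hp i (by omega) (by omega), h.2.1 i (by omega) (by omega), h.2.2 i (by omega) (by omega)⟩
  · have h := checkAll_sound T eqPairs 16 12 306936 _ _ chk196
    exact ⟨fun p hp => h.1 p hp i (by omega) (by omega), h.2.1 i (by omega) (by omega), h.2.2 i (by omega) (by omega)⟩
  · have h := checkAll_sound T eqPairs 16 12 306936 _ _ chk197
    exact ⟨fun p hp => h.1 p hp i (by omega) (by omega), h.2.1 i (by omega) (by omega), h.2.2 i (by omega) (by omega)⟩
  · have h := checkAll_sound T eqPairs 16 12 306936 _ _ chk198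
    exact ⟨fun p hp => h.1 p hp i (by omega) (by omega), h.2.1 i (by omega) (by omega), h.2.2 i (by omega) (by omega)⟩
  · have h := checkAll_sound T eqPairs 16 12 306936 _ _ chk199
    exact ⟨fun p hp => h.1 p hp i (by omega) (by omega), h.2.1 i (by omega) (by omega), h.2.2 i (by omega) (by omega)⟩
  · have h := checkAll_sound T eqPairs 16 12 306936 _ _ chk200
    exact ⟨fun p hp => h.1 p hp i (by omega) (by omega), h.2.1 i (by omega) (by omega), h.2.2 i (by omega) (by omega)⟩
  · have h := checkAll_sound T eqPairs 16 12 306936 _ _ chk201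
    exact ⟨fun p hp => h.1 p hp i (by omega) (by omega), h.2.1 i (by omega) (by omega), h.2.2 i (by omega) (by omega)⟩
  · have h := checkAll_sound T eqPairs 16 12 306936 _ _ chk202
    exact ⟨fun p hp => h.1 p hp i (by omega) (by omega), h.2.1 i (by omega) (by omega), h.2.2 i (by omega) (by omega)⟩
  · have h := checkAll_sound T eqPairs 16 12 306936 _ _ chk203
    exact ⟨fun p hp => h.1 p hp i (by omega) (by omega), h.2.1 i (by omega) (by omega), h.2.2 i (by omega) (by omega)⟩
  · have h := checkAll_sound T eqPairs 16 12 306936 _ _ chk204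
    exact ⟨fun p hp => h.1 p hp i (by omega) (by omega), h.2.1 i (by omega) (by omega), h.2.2 i (by omega) (by omega)⟩
  · have h := checkAll_sound T eqPairs 16 12 306936 _ _ chk205
    exact ⟨fun p hp => h.1 p hp i (by omega) (by omega), h.2.1 i (by omega) (by omega), h.2.2 i (by omega) (by omega)⟩
  · have h := checkAll_sound T eqPairs 16 12 306936 _ _ chk206
    exact ⟨fun p hp => h.1 p hp i (by omega) (by omega), h.2.1 i (by omega) (by omega), h.2.2 i (by omega) (by omega)⟩
  · have h := checkAll_sound T eqPairs 16 12 306936 _ _ chk207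
    exact ⟨fun p hp => h.1 p hp i (by omega) (by omega), h.2.1 i (by omega) (by omega), h.2.2 i (by omega) (by omega)⟩
  · have h := checkAll_sound T eqPairs 16 12 306936 _ _ chk208
    exact ⟨fun p hp => h.1 p hp i (by omega) (by omega), h.2.1 i (by omega) (by omega), h.2.2 i (by omega) (by omega)⟩
  · have h := checkAll_sound T eqPairs 16 12 306936 _ _ chk209
    exact ⟨fun p hp => h.1 p hp i (by omega) (by omega), h.2.1 i (by omega) (by omega), h.2.2 i (by omega) (by omega)⟩
  · have h := checkAll_sound T eqPairs 16 12 306936 _ _ chk210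
    exact ⟨fun p hp => h.1 p hp i (by omega) (by omega), h.2.1 i (by omega) (by omega), h.2.2 i (by omega) (by omega)⟩
  · have h := checkAll_sound T eqPairs 16 12 306936 _ _ chk211
    exact ⟨fun p hp => h.1 p hp i (by omega) (by omega), h.2.1 i (by omega) (by omega), h.2.2 i (by omega) (by omega)⟩
  · have h := checkAll_sound T eqPairs 16 12 306936 _ _ chk212
    exact ⟨fun p hp => h.1 p hp i (by omega) (by omega), h.2.1 i (by omega) (by omega), h.2.2 i (by omega) (by omega)⟩
  · have h := checkAll_sound T eqPairs 16 12 306936 _ _ chk213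
    exact ⟨fun p hp => h.1 p hp i (by omega) (by omega), h.2.1 i (by omega) (by omega), h.2.2 i (by omega) (by omega)⟩
  · have h := checkAll_sound T eqPairs 16 12 306936 _ _ chk214
    exact ⟨fun p hp => h.1 p hp i (by omega) (by omega), h.2.1 i (by omega) (by omega), h.2.2 i (by omega) (by omega)⟩
  · have h := checkAll_sound T eqPairs 16 12 306936 _ _ chk215
    exact ⟨fun p hp => h.1 p hp i (by omega) (by omega), h.2.1 i (by omega) (by omega), h.2.2 i (by omega) (by omega)⟩
  · have h := checkAll_sound T eqPairs 16 12 306936 _ _ chk216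
    exact ⟨fun p hp => h.1 p hp i (by omega) (by omega), h.2.1 i (by omega) (by omega), h.2.2 i (by omega) (by omega)⟩
  · have h := checkAll_sound T eqPairs 16 12 306936 _ _ chk217
    exact ⟨fun p hp => h.1 p hp i (by omega) (by omega), h.2.1 i (by omega) (by omega), h.2.2 i (by omega) (by omega)⟩
  · have h := checkAll_sound T eqPairs 16 12 306936 _ _ chk218
    exact ⟨fun p hp => h.1 p hp i (by omega) (by omega), h.2.1 i (by omega) (by omega), h.2.2 i (by omega) (by omega)⟩
  · have h := checkAll_sound T eqPairs 16 12 306936 _ _ chk219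
    exact ⟨fun p hp => h.1 p hp i (by omega) (by omega), h.2.1 i (by omega) (by omega), h.2.2 i (by omega) (by omega)⟩
  · have h := checkAll_sound T eqPairs 16 12 306936 _ _ chk220
    exact ⟨fun p hp => h.1 p hp i (by omega) (by omega), h.2.1 i (by omega) (by omega), h.2.2 i (by omega) (by omega)⟩
  · have h := checkAll_sound T eqPairs 16 12 306936 _ _ chk221
    exact ⟨fun p hp => h.1 p hp i (by omega) (by omega), h.2.1 i (by omega) (by omega), h.2.2 i (by omega) (by omega)⟩
  · have h := checkAll_sound T eqPairs 16 12 306936 _ _ chk222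
    exact ⟨fun p hp => h.1 p hp i (by omega) (by omega), h.2.1 i (by omega) (by omega), h.2.2 i (by omega) (by omega)⟩
  · have h := checkAll_sound T eqPairs 16 12 306936 _ _ chk223
    exact ⟨fun p hp => h.1 p hp i (by omega) (by omega), h.2.1 i (by omega) (by omega), h.2.2 i (by omega) (by omega)⟩
  · have h := checkAll_sound T eqPairs 16 12 306936 _ _ chk224
    exact ⟨fun p hp => h.1 p hp i (by omega) (by omega), h.2.1 i (by omega) (by omega), h.2.2 i (by omega) (by omega)⟩
  · have h := checkAll_sound T eqPairs 16 12 306936 _ _ chk225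
    exact ⟨fun p hp => h.1 p hp i (by omega) (by omega), h.2.1 i (by omega) (by omega), h.2.2 i (by omega) (by omega)⟩
  · have h := checkAll_sound T eqPairs 16 12 306936 _ _ chk226
    exact ⟨fun p hp => h.1 p hp i (by omega) (by omega), h.2.1 i (by omega) (by omega), h.2.2 i (by omega) (by omega)⟩
  · have h := checkAll_sound T eqPairs 16 12 306936 _ _ chk227
    exact ⟨fun p hp => h.1 p hp i (by omega) (by omega), h.2.1 i (by omega) (by omega), h.2.2 i (by omega) (by omega)⟩
  · have h := checkAll_sound T eqPairs 16 12 306936 _ _ chk228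
    exact ⟨fun p hp => h.1 p hp i (by omega) (by omega), h.2.1 i (by omega) (by omega), h.2.2 i (by omega) (by omega)⟩
  · have h := checkAll_sound T eqPairs 16 12 306936 _ _ chk229
    exact ⟨fun p hp => h.1 p hp i (by omega) (by omega), h.2.1 i (by omega) (by omega), h.2.2 i (by omega) (by omega)⟩
  · have h := checkAll_sound T eqPairs 16 12 306936 _ _ chk230
    exact ⟨fun p hp => h.1 p hp i (by omega) (by omega), h.2.1 i (by omega) (by omega), h.2.2 i (by omega) (by omega)⟩
  · have h := checkAll_sound T eqPairs 16 12 306936 _ _ chk231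
    exact ⟨fun p hp => h.1 p hp i (by omega) (by omega), h.2.1 i (by omega) (by omega), h.2.2 i (by omega) (by omega)⟩
  · have h := checkAll_sound T eqPairs 16 12 306936 _ _ chk232
    exact ⟨fun p hp => h.1 p hp i (by omega) (by omega), h.2.1 i (by omega) (by omega), h.2.2 i (by omega) (by omega)⟩
  · have h := checkAll_sound T eqPairs 16 12 306936 _ _ chk233
    exact ⟨fun p hp => h.1 p hp i (by omega) (by omega), h.2.1 i (by omega) (by omega), h.2.2 i (by omega) (by omega)⟩
  · have h := checkAll_sound T eqPairs 16 12 306936 _ _ chk234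
    exact ⟨fun p hp => h.1 p hp i (by omega) (by omega), h.2.1 i (by omega) (by omega), h.2.2 i (by omega) (by omega)⟩
  · have h := checkAll_sound T eqPairs 16 12 306936 _ _ chk235
    exact ⟨fun p hp => h.1 p hp i (by omega) (by omega), h.2.1 i (by omega) (by omega), h.2.2 i (by omega) (by omega)⟩
  · have h := checkAll_sound T eqPairs 16 12 306936 _ _ chk236
    exact ⟨fun p hp => h.1 p hp i (by omega) (by omega), h.2.1 i (by omega) (by omega), h.2.2 i (by omega) (by omega)⟩
  · have h := checkAll_sound T eqPairs 16 12 306936 _ _ chk237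
    exact ⟨fun p hp => h.1 p hp i (by omega) (by omega), h.2.1 i (by omega) (by omega), h.2.2 i (by omega) (by omega)⟩
  · have h := checkAll_sound T eqPairs 16 12 306936 _ _ chk238
    exact ⟨fun p hp => h.1 p hp i (by omega) (by omega), h.2.1 i (by omega) (by omega), h.2.2 i (by omega) (by omega)⟩
  · have h := checkAll_sound T eqPairs 16 12 306936 _ _ chk239
    exact ⟨fun p hp => h.1 p hp i (by omega) (by omega), h.2.1 i (by omega) (by omega), h.2.2 i (by omega) (by omega)⟩
  · have h := checkAll_sound T eqPairs 16 12 306936 _ _ chk240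
    exact ⟨fun p hp => h.1 p hp i (by omega) (by omega), h.2.1 i (by omega) (by omega), h.2.2 i (by omega) (by omega)⟩
  · have h := checkAll_sound T eqPairs 16 12 306936 _ _ chk241
    exact ⟨fun p hp => h.1 p hp i (by omega) (by omega), h.2.1 i (by omega) (by omega), h.2.2 i (by omega) (by omega)⟩
  · have h := checkAll_sound T eqPairs 16 12 306936 _ _ chk242
    exact ⟨fun p hp => h.1 p hp i (by omega) (by omega), h.2.1 i (by omega) (by omega), h.2.2 i (by omega) (by omega)⟩
  · have h := checkAll_sound T eqPairs 16 12 306936 _ _ chk243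
    exact ⟨fun p hp => h.1 p hp i (by omega) (by omega), h.2.1 i (by omega) (by omega), h.2.2 i (by omega) (by omega)⟩
  · have h := checkAll_sound T eqPairs 16 12 306936 _ _ chk244
    exact ⟨fun p hp => h.1 p hp i (by omega) (by omega), h.2.1 i (by omega) (by omega), h.2.2 i (by omega) (by omega)⟩
  · have h := checkAll_sound T eqPairs 16 12 306936 _ _ chk245
    exact ⟨fun p hp => h.1 p hp i (by omega) (by omega), h.2.1 i (by omega) (by omega), h.2.2 i (by omega) (by omega)⟩
  · have h := checkAll_sound T eqPairs 16 12 306936 _ _ chk246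
    exact ⟨fun p hp => h.1 p hp i (by omega) (by omega), h.2.1 i (by omega) (by omega), h.2.2 i (by omega) (by omega)⟩
  · have h := checkAll_sound T eqPairs 16 12 306936 _ _ chk247
    exact ⟨fun p hp => h.1 p hp i (by omega) (by omega), h.2.1 i (by omega) (by omega), h.2.2 i (by omega) (by omega)⟩
  · have h := checkAll_sound T eqPairs 16 12 306936 _ _ chk248
    exact ⟨fun p hp => h.1 p hp i (by omega) (by omega), h.2.1 i (by omega) (by omega), h.2.2 i (by omega) (by omega)⟩
  · have h := checkAll_sound T eqPairs 16 12 306936 _ _ chk249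
    exact ⟨fun p hp => h.1 p hp i (by omega) (by omega), h.2.1 i (by omega) (by omega), h.2.2 i (by omega) (by omega)⟩
  · have h := checkAll_sound T eqPairs 16 12 306936 _ _ chk250
    exact ⟨fun p hp => h.1 p hp i (by omega) (by omega), h.2.1 i (by omega) (by omega), h.2.2 i (by omega) (by omega)⟩
  · have h := checkAll_sound T eqPairs 16 12 306936 _ _ chk251
    exact ⟨fun p hp => h.1 p hp i (by omega) (by omega), h.2.1 i (by omega) (by omega), h.2.2 i (by omega) (by omega)⟩
  · have h := checkAll_sound T eqPairs 16 12 306936 _ _ chk252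
    exact ⟨fun p hp => h.1 p hp i (by omega) (by omega), h.2.1 i (by omega) (by omega), h.2.2 i (by omega) (by omega)⟩
  · have h := checkAll_sound T eqPairs 16 12 306936 _ _ chk253
    exact ⟨fun p hp => h.1 p hp i (by omega) (by omega), h.2.1 i (by omega) (by omega), h.2.2 i (by omega) (by omega)⟩
  · have h := checkAll_sound T eqPairs 16 12 306936 _ _ chk254
    exact ⟨fun p hp => h.1 p hp i (by omega) (by omega), h.2.1 i (by omega) (by omega), h.2.2 i (by omega) (by omega)⟩
  · have h := checkAll_sound T eqPairs 16 12 306936 _ _ chk255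
    exact ⟨fun p hp => h.1 p hp i (by omega) (by omega), h.2.1 i (by omega) (by omega), h.2.2 i (by omega) (by omega)⟩
  · have h := checkAll_sound T eqPairs 16 12 306936 _ _ chk256
    exact ⟨fun p hp => h.1 p hp i (by omega) (by omega), h.2.1 i (by omega) (by omega), h.2.2 i (by omega) (by omega)⟩
  · have h := checkAll_sound T eqPairs 16 12 306936 _ _ chk257
    exact ⟨fun p hp => h.1 p hp i (by omega) (by omega), h.2.1 i (by omega) (by omega), h.2.2 i (by omega) (by omega)⟩
  · have h := checkAll_sound T eqPairs 16 12 306936 _ _ chk258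
    exact ⟨fun p hp => h.1 p hp i (by omega) (by omega), h.2.1 i (by omega) (by omega), h.2.2 i (by omega) (by omega)⟩
  · have h := checkAll_sound T eqPairs 16 12 306936 _ _ chk259
    exact ⟨fun p hp => h.1 p hp i (by omega) (by omega), h.2.1 i (by omega) (by omega), h.2.2 i (by omega) (by omega)⟩
  · have h := checkAll_sound T eqPairs 16 12 306936 _ _ chk260
    exact ⟨fun p hp => h.1 p hp i (by omega) (by omega), h.2.1 i (by omega) (by omega), h.2.2 i (by omega) (by omega)⟩
  · have h := checkAll_sound T eqPairs 16 12 306936 _ _ chk261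
    exact ⟨fun p hp => h.1 p hp i (by omega) (by omega), h.2.1 i (by omega) (by omega), h.2.2 i (by omega) (by omega)⟩
  · have h := checkAll_sound T eqPairs 16 12 306936 _ _ chk262
    exact ⟨fun p hp => h.1 p hp i (by omega) (by omega), h.2.1 i (by omega) (by omega), h.2.2 i (by omega) (by omega)⟩
  · have h := checkAll_sound T eqPairs 16 12 306936 _ _ chk263
    exact ⟨fun p hp => h.1 p hp i (by omega) (by omega), h.2.1 i (by omega) (by omega), h.2.2 i (by omega) (by omega)⟩
  · have h := checkAll_sound T eqPairs 16 12 306936 _ _ chk264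
    exact ⟨fun p hp => h.1 p hp i (by omega) (by omega), h.2.1 i (by omega) (by omega), h.2.2 i (by omega) (by omega)⟩
  · have h := checkAll_sound T eqPairs 16 12 306936 _ _ chk265
    exact ⟨fun p hp => h.1 p hp i (by omega) (by omega), h.2.1 i (by omega) (by omega), h.2.2 i (by omega) (by omega)⟩
  · have h := checkAll_sound T eqPairs 16 12 306936 _ _ chk266
    exact ⟨fun p hp => h.1 p hp i (by omega) (by omega), h.2.1 i (by omega) (by omega), h.2.2 i (by omega) (by omega)⟩
  · have h := checkAll_sound T eqPairs 16 12 306936 _ _ chk267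
    exact ⟨fun p hp => h.1 p hp i (by omega) (by omega), h.2.1 i (by omega) (by omega), h.2.2 i (by omega) (by omega)⟩
  · have h := checkAll_sound T eqPairs 16 12 306936 _ _ chk268
    exact ⟨fun p hp => h.1 p hp i (by omega) (by omega), h.2.1 i (by omega) (by omega), h.2.2 i (by omega) (by omega)⟩
  · have h := checkAll_sound T eqPairs 16 12 306936 _ _ chk269
    exact ⟨fun p hp => h.1 p hp i (by omega) (by omega), h.2.1 i (by omega) (by omega), h.2.2 i (by omega) (by omega)⟩
  · have h := checkAll_sound T eqPairs 16 12 306936 _ _ chk270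
    exact ⟨fun p hp => h.1 p hp i (by omega) (by omega), h.2.1 i (by omega) (by omega), h.2.2 i (by omega) (by omega)⟩
  · have h := checkAll_sound T eqPairs 16 12 306936 _ _ chk271
    exact ⟨fun p hp => h.1 p hp i (by omega) (by omega), h.2.1 i (by omega) (by omega), h.2.2 i (by omega) (by omega)⟩
  · have h := checkAll_sound T eqPairs 16 12 306936 _ _ chk272
    exact ⟨fun p hp => h.1 p hp i (by omega) (by omega), h.2.1 i (by omega) (by omega), h.2.2 i (by omega) (by omega)⟩
  · have h := checkAll_sound T eqPairs 16 12 306936 _ _ chk273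
    exact ⟨fun p hp => h.1 p hp i (by omega) (by omega), h.2.1 i (by omega) (by omega), h.2.2 i (by omega) (by omega)⟩
  · have h := checkAll_sound T eqPairs 16 12 306936 _ _ chk274
    exact ⟨fun p hp => h.1 p hp i (by omega) (by omega), h.2.1 i (by omega) (by omega), h.2.2 i (by omega) (by omega)⟩
  · have h := checkAll_sound T eqPairs 16 12 306936 _ _ chk275
    exact ⟨fun p hp => h.1 p hp i (by omega) (by omega), h.2.1 i (by omega) (by omega), h.2.2 i (by omega) (by omega)⟩
  · have h := checkAll_sound T eqPairs 16 12 306936 _ _ chk276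
    exact ⟨fun p hp => h.1 p hp i (by omega) (by omega), h.2.1 i (by omega) (by omega), h.2.2 i (by omega) (by omega)⟩
  · have h := checkAll_sound T eqPairs 16 12 306936 _ _ chk277
    exact ⟨fun p hp => h.1 p hp i (by omega) (by omega), h.2.1 i (by omega) (by omega), h.2.2 i (by omega) (by omega)⟩
  · have h := checkAll_sound T eqPairs 16 12 306936 _ _ chk278
    exact ⟨fun p hp => h.1 p hp i (by omega) (by omega), h.2.1 i (by omega) (by omega), h.2.2 i (by omega) (by omega)⟩
  · have h := checkAll_sound T eqPairs 16 12 306936 _ _ chk279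
    exact ⟨fun p hp => h.1 p hp i (by omega) (by omega), h.2.1 i (by omega) (by omega), h.2.2 i (by omega) (by omega)⟩
  · have h := checkAll_sound T eqPairs 16 12 306936 _ _ chk280
    exact ⟨fun p hp => h.1 p hp i (by omega) (by omega), h.2.1 i (by omega) (by omega), h.2.2 i (by omega) (by omega)⟩
  · have h := checkAll_sound T eqPairs 16 12 306936 _ _ chk281
    exact ⟨fun p hp => h.1 p hp i (by omega) (by omega), h.2.1 i (by omega) (by omega), h.2.2 i (by omega) (by omega)⟩
  · have h := checkAll_sound T eqPairs 16 12 306936 _ _ chk282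
    exact ⟨fun p hp => h.1 p hp i (by omega) (by omega), h.2.1 i (by omega) (by omega), h.2.2 i (by omega) (by omega)⟩
  · have h := checkAll_sound T eqPairs 16 12 306936 _ _ chk283
    exact ⟨fun p hp => h.1 p hp i (by omega) (by omega), h.2.1 i (by omega) (by omega), h.2.2 i (by omega) (by omega)⟩
  · have h := checkAll_sound T eqPairs 16 12 306936 _ _ chk284
    exact ⟨fun p hp => h.1 p hp i (by omega) (by omega), h.2.1 i (by omega) (by omega), h.2.2 i (by omega) (by omega)⟩
  · have h := checkAll_sound T eqPairs 16 12 306936 _ _ chk285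
    exact ⟨fun p hp => h.1 p hp i (by omega) (by omega), h.2.1 i (by omega) (by omega), h.2.2 i (by omega) (by omega)⟩
  · have h := checkAll_sound T eqPairs 16 12 306936 _ _ chk286
    exact ⟨fun p hp => h.1 p hp i (by omega) (by omega), h.2.1 i (by omega) (by omega), h.2.2 i (by omega) (by omega)⟩
  · have h := checkAll_sound T eqPairs 16 12 306936 _ _ chk287
    exact ⟨fun p hp => h.1 p hp i (by omega) (by omega), h.2.1 i (by omega) (by omega), h.2.2 i (by omega) (by omega)⟩
  · have h := checkAll_sound T eqPairs 16 12 306936 _ _ chk288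
    exact ⟨fun p hp => h.1 p hp i (by omega) (by omega), h.2.1 i (by omega) (by omega), h.2.2 i (by omega) (by omega)⟩
  · have h := checkAll_sound T eqPairs 16 12 306936 _ _ chk289
    exact ⟨fun p hp => h.1 p hp i (by omega) (by omega), h.2.1 i (by omega) (by omega), h.2.2 i (by omega) (by omega)⟩
  · have h := checkAll_sound T eqPairs 16 12 306936 _ _ chk290
    exact ⟨fun p hp => h.1 p hp i (by omega) (by omega), h.2.1 i (by omega) (by omega), h.2.2 i (by omega) (by omega)⟩
  · have h := checkAll_sound T eqPairs 16 12 306936 _ _ chk291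
    exact ⟨fun p hp => h.1 p hp i (by omega) (by omega), h.2.1 i (by omega) (by omega), h.2.2 i (by omega) (by omega)⟩
  · have h := checkAll_sound T eqPairs 16 12 306936 _ _ chk292
    exact ⟨fun p hp => h.1 p hp i (by omega) (by omega), h.2.1 i (by omega) (by omega), h.2.2 i (by omega) (by omega)⟩
  · have h := checkAll_sound T eqPairs 16 12 306936 _ _ chk293
    exact ⟨fun p hp => h.1 p hp i (by omega) (by omega), h.2.1 i (by omega) (by omega), h.2.2 i (by omega) (by omega)⟩
  · have h := checkAll_sound T eqPairs 16 12 306936 _ _ chk294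
    exact ⟨fun p hp => h.1 p hp i (by omega) (by omega), h.2.1 i (by omega) (by omega), h.2.2 i (by omega) (by omega)⟩
  · have h := checkAll_sound T eqPairs 16 12 306936 _ _ chk295
    exact ⟨fun p hp => h.1 p hp i (by omega) (by omega), h.2.1 i (by omega) (by omega), h.2.2 i (by omega) (by omega)⟩
  · have h := checkAll_sound T eqPairs 16 12 306936 _ _ chk296
    exact ⟨fun p hp => h.1 p hp i (by omega) (by omega), h.2.1 i (by omega) (by omega), h.2.2 i (by omega) (by omega)⟩
  · have h := checkAll_sound T eqPairs 16 12 306936 _ _ chk297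
    exact ⟨fun p hp => h.1 p hp i (by omega) (by omega), h.2.1 i (by omega) (by omega), h.2.2 i (by omega) (by omega)⟩
  · have h := checkAll_sound T eqPairs 16 12 306936 _ _ chk298
    exact ⟨fun p hp => h.1 p hp i (by omega) (by omega), h.2.1 i (by omega) (by omega), h.2.2 i (by omega) (by omega)⟩
  · have h := checkAll_sound T eqPairs 16 12 306936 _ _ chk299
    exact ⟨fun p hp => h.1 p hp i (by omega) (by omega), h.2.1 i (by omega) (by omega), h.2.2 i (by omega) (by omega)⟩

end Cfsg.Agent.Lib.H6.FiPerm
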