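import Cfsg.Agent.Lib.H6.FiPerm.Tab

set_option autoImplicit false
set_option maxRecDepth 1000000

/-! # checks, part 0 (generated) -/

namespace Cfsg.Agent.Lib.H6.FiPerm

open Cfsg.Agent.Lib.H17.CosetCert Cfsg.Agent.Lib.H6.PermTab Cfsg.Agent.Lib.H6.PermFast

set_option maxHeartbeats 0 in
theorem chk0 : checkAll T eqPairs 16 12 306936 0 1024 = true := by
  decide +kernel

set_option maxHeartbeats 0 in
theorem chk1 : checkAll T eqPairs 16 12 306936 1024 1024 = true := by
  decide +kernel

set_option maxHeartbeats 0 in
theorem chk2 : checkAll T eqPairs 16 12 306936 2048 1024 = true := by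
  decide +kernel

set_option maxHeartbeats 0 in
theorem chk3 : checkAll T eqPairs 16 12 306936 3072 1024 = true := by
  decide +kernel

set_option maxHeartbeats 0 in
theorem chk4 : checkAll T eqPairs 16 12 306936 4096 1024 = true := by
  decide +kernel

set_option maxHeartbeats 0 in
theorem chk5 : checkAll T eqPairs 16 12 306936 5120 1024 = true := by
  decide +kernel

set_option maxHeartbeats 0 in
theorem chk6 : checkAll T eqPairs 16 12 306936 6144 1024 = true := by
  decide +kernel

set_option maxHeartbeats 0 in
theorem chk7 : checkAll T eqPairs 16 12 306936 7168 1024 = true := by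
  decide +kernel

end Cfsg.Agent.Lib.H6.FiPerm
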