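import Cfsg.Agent.Lib.H6.FiPerm.Tab

set_option autoImplicit false
set_option maxRecDepth 1000000

/-! # checks, part 28 (generated) -/

namespace Cfsg.Agent.Lib.H6.FiPerm

open Cfsg.Agent.Lib.H17.CosetCert Cfsg.Agent.Lib.H6.PermTab Cfsg.Agent.Lib.H6.PermFast

set_option maxHeartbeats 0 in
theorem chk224 : checkAll T eqPairs 16 12 306936 229376 1024 = true := by
  decide +kernel

set_option maxHeartbeats 0 in
theorem chk225 : checkAll T eqPairs 16 12 306936 230400 1024 = true := by
  decide +kernel

set_option maxHeartbeats 0 in
theorem chk226 : checkAll T eqPairs 16 12 306936 231424 1024 = true := by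
  decide +kernel

set_option maxHeartbeats 0 in
theorem chk227 : checkAll T eqPairs 16 12 306936 232448 1024 = true := by
  decide +kernel

set_option maxHeartbeats 0 in
theorem chk228 : checkAll T eqPairs 16 12 306936 233472 1024 = true := by
  decide +kernel

set_option maxHeartbeats 0 in
theorem chk229 : checkAll T eqPairs 16 12 306936 234496 1024 = true := by
  decide +kernel

set_option maxHeartbeats 0 in
theorem chk230 : checkAll T eqPairs 16 12 306936 235520 1024 = true := by
  decide +kernel

set_option maxHeartbeats 0 in
theorem chk231 : checkAll T eqPairs 16 12 306936 236544 1024 = true := by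
  decide +kernel

end Cfsg.Agent.Lib.H6.FiPerm
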